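import Cfsg.Agent.Lib.G2Deg.Weights
import Mathlib.LinearAlgebra.Matrix.DotProduct
import Mathlib.Analysis.Complex.Order

/-!
An invariant Hermitian form, and self-adjointness of the weight projections.
-/

set_option autoImplicit false
set_option linter.unusedSectionVars false

namespace CfsgLib.G2Deg

open Cfsg.Lie CfsgLib.Chev CfsgLib.G2Invol CfsgLib.MinDeg Module Matrix
open scoped ComplexOrder ComplexConjugate

variable {F : Type*} [Field F] [Fintype F] [Fintype (GG F)] {k : ℕ} (ρ : Representation ℂ (GG F) (Fin k → ℂ))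

/-- the averaged form -/
noncomputable def hf (x y : Fin k → ℂ) : ℂ := ∑ g : GG F, star (ρ g x) ⬝ᵥ ρ g y

variable {ρ}

theorem hf_add_right (x y z : Fin k → ℂ) : hf ρ x (y + z) = hf ρ x y + hf ρ x z := by
  simp [hf, Finset.sum_add_distrib]

theorem hf_smul_right (x y : Fin k → ℂ) (c : ℂ) : hf ρ x (c • y) = c * hf ρ x y := by
  simp [hf, Finset.mul_sum]

theorem hf_smul_left (x y : Fin k → ℂ) (c : ℂ) : hf ρ (c • x) y = star c * hf ρ x y := by
  simp [hf, Finset.mul_sum, star_smul]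

theorem hf_zero_right (x : Fin k → ℂ) : hf ρ x 0 = 0 := by simp [hf]

theorem hf_sum_right {ι : Type*} (s : Finset ι) (x : Fin k → ℂ) (f : ι → Fin k → ℂ) :
    hf ρ x (∑ i ∈ s, f i) = ∑ i ∈ s, hf ρ x (f i) := by
  simp only [hf, map_sum, dotProduct_sum]
  rw [Finset.sum_comm]

theorem hf_sum_left {ι : Type*} (s : Finset ι) (y : Fin k → ℂ) (f : ι → Fin k → ℂ) :
    hf ρ (∑ i ∈ s, f i) y = ∑ i ∈ s, hf ρ (f i) y := by
  simp only [hf, map_sum, star_sum, sum_dotProduct]
  rw [Finset.sum_comm]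

theorem hf_inv (g : GG F) (x y : Fin k → ℂ) : hf ρ (ρ g x) (ρ g y) = hf ρ x y := by
  simp only [hf, ← rho_mul]
  exact Fintype.sum_equiv (Equiv.mulRight g) _ _ fun _ => rfl

theorem hf_adj (g : GG F) (x y : Fin k → ℂ) : hf ρ (ρ g x) y = hf ρ x (ρ g⁻¹ y) := by
  conv_lhs => rw [← rho_self_inv (ρ := ρ) g y, hf_inv]

theorem hf_self_eq_zero {x : Fin k → ℂ} : hf ρ x x = 0 ↔ x = 0 := by
  refine ⟨fun h => ?_, fun h => by rw [h, hf_zero_right]⟩
  rw [hf, Finset.sum_eq_zero_iff_of_nonneg fun g _ => dotProduct_star_self_nonneg _] at h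
  have := h 1 (Finset.mem_univ _)
  rw [rho_one, dotProduct_star_self_eq_zero] at this
  exact this

theorem hf_proj (r : Fin 12) (α : F) (x y : Fin k → ℂ) :
    hf ρ (weightProj (resChar ρ (xr r)) ((pc F).mulShift α) x) y =
      hf ρ x (weightProj (resChar ρ (xr r)) ((pc F).mulShift α) y) := by
  simp only [weightProj_apply, hf_smul_left, hf_smul_right, hf_sum_left, hf_sum_right, resChar_apply,
    AddChar.mulShift_apply, star_inv₀, star_natCast]
  congr 1
  refine Fintype.sum_equiv (Equiv.neg F) _ _ fun a => ?_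
  simp only [Equiv.neg_apply, hf_adj, star_pc, xr_inv, mul_neg, neg_neg]

end CfsgLib.G2Deg
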