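import Cfsg.Agent.Lib.G2Deg.Three
import Cfsg.Agent.Lib.Chev.OrderCases
import Cfsg.Agent.Lib.Char.Integral
import Mathlib.LinearAlgebra.Determinant
import Mathlib.GroupTheory.SpecificGroups.Cyclic

/-!
The degree bound in characteristic three.
-/

set_option autoImplicit false
set_option linter.unusedSectionVars false

namespace CfsgLib.G2Deg

open Cfsg.Lie CfsgLib.Chev CfsgLib.G2Invol CfsgLib.MinDeg Module

variable {F : Type*} [Field F] [Fintype F]
variable {V : Type*} [AddCommGroup V] [Module ℂ V] [FiniteDimensional ℂ V]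
variable {ρ : Representation ℂ (GG F) V}

theorem cube_surjective (h30 : (3 : F) = 0) : Function.Surjective fun x : F => x ^ 3 := by
  refine Finite.injective_iff_surjective.1 fun x y h => ?_
  have h' : (x - y) ^ 3 = 0 := by
    have h0 : x ^ 3 = y ^ 3 := h
    linear_combination h0 + (-x ^ 2 * y + x * y ^ 2) * h30
  exact sub_eq_zero.1 ((pow_eq_zero_iff three_ne_zero).1 h')

theorem exists_cube_ne_self (hq : 3 < Fintype.card F) : ∃ s : F, s ^ 3 ≠ s := by
  classical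
  by_contra h
  push Not at h
  have hsub : (Finset.univ : Finset F) ⊆ {0, 1, -1} := fun s _ => by
    have e : s * (s - 1) * (s + 1) = 0 := by linear_combination h s
    rcases mul_eq_zero.1 e with e' | e'
    · rcases mul_eq_zero.1 e' with e'' | e''
      · simp [e'']
      · simp [sub_eq_zero.1 e'']
    · simp [eq_neg_of_add_eq_zero_left e']
  have := (Finset.card_le_card hsub).trans Finset.card_le_three
  rw [Finset.card_univ] at this
  omega

theorem pc_pow_three (h30 : (3 : F) = 0) (x : F) : pc F x ^ 3 = 1 := by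
  rw [← AddChar.map_nsmul_eq_pow, nsmul_eq_mul, show ((3 : ℕ) : F) = 0 by exact_mod_cast h30, zero_mul,
    AddChar.map_zero_eq_one]

/-- the action of `[X_a, X_b]` on a weight space with `X_{2a+b}`, `X_{3a+2b}` trivial -/
theorem rho_seven_six (s t : F) {α γ : F} {v : V} (h8 : v ∈ ew ρ 8 α) (h9 : v ∈ ew ρ 9 (0 : F))
    (h10 : v ∈ ew ρ 10 γ) (h11 : v ∈ ew ρ 11 (0 : F)) :
    ρ (xr 6 t) (ρ (xr 7 s) v) = pc F (α * (s * t) - γ * (s ^ 3 * t)) • ρ (xr 7 s) (ρ (xr 6 t) v) := by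
  obtain ⟨b, c, h⟩ := conj_seven_six s t
  have e : xr 6 t * xr 7 s = xr 7 s * (xr 6 t * xr 8 (s * t) * xr 9 b * xr 10 (-(s ^ 3 * t)) * xr 11 c) := by
    rw [← h]; group
  rw [← rho_mul, e]
  simp only [rho_mul, mem_ew_zero.1 h11, mem_ew.1 h10, map_smul, mem_ew_zero.1 h9, mem_ew.1 h8, smul_smul,
    ← AddChar.map_add_eq_mul]
  congr 2
  ring

/-- a weight space with `X_{a+b}`, `X_{3a+b}` non-trivial carries a Heisenberg group of exponent three -/
theorem T4_ne_one_two (h30 : (3 : F) = 0) (hq : 3 < Fintype.card F) {α γ : F} (hα : α ≠ 0) :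
    finrank ℂ (T4 ρ α 0 γ 0) ≠ 1 ∧ finrank ℂ (T4 ρ α 0 γ 0) ≠ 2 := by
  by_contra hcon
  have hdim : finrank ℂ (T4 ρ α 0 γ 0) = 1 ∨ finrank ℂ (T4 ρ α 0 γ 0) = 2 := by omega
  set W := T4 ρ α 0 γ 0 with hW
  have hA : ∀ s : F, ∀ v ∈ W, ρ (xr 7 s) v ∈ W := fun s v hv => ⟨⟨⟨stab3 h30 (by decide +kernel) _ _ v hv.1.1.1,
    stab3 h30 (by decide +kernel) _ _ v hv.1.1.2⟩, stab3 h30 (by decide +kernel) _ _ v hv.1.2⟩,
    ew_cast (by ring) (mem_ew_shift (ρ := ρ) (conj_seven_eight h30 s) hv.2 hv.1.1.2)⟩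
  have hB : ∀ t : F, ∀ v ∈ W, ρ (xr 6 t) v ∈ W := fun t v hv => ⟨⟨⟨stab3 h30 (by decide +kernel) _ _ v hv.1.1.1,
    stab3 h30 (by decide +kernel) _ _ v hv.1.1.2⟩,
    ew_cast (by ring) (mem_ew_shift (ρ := ρ) (conj_one (g := 6) (r := 10) (v := 11) (k := 1) (by decide +kernel) t)
      hv.1.2 hv.1.1.1)⟩, stab3 h30 (by decide +kernel) _ _ v hv.2⟩
  have key : ∀ s t : F, pc F ((α * s - γ * s ^ 3) * t) = 1 := by
    intro s t
    set c := pc F (α * (s * t) - γ * (s ^ 3 * t)) with hc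
    let A : Module.End ℂ W := (ρ (xr 7 s)).restrict (hA s)
    let B : Module.End ℂ W := (ρ (xr 6 t)).restrict (hB t)
    have hcomm : B * A = c • (A * B) := by
      apply LinearMap.ext
      intro v
      apply Subtype.ext
      simp only [A, B, Module.End.mul_apply, LinearMap.smul_apply, SetLike.val_smul, LinearMap.restrict_apply]
      exact rho_seven_six s t v.2.2 v.2.1.1.2 v.2.1.2 v.2.1.1.1
    have hdet := congrArg LinearMap.det hcomm
    rw [LinearMap.det_smul, map_mul, map_mul, mul_comm (LinearMap.det B)] at hdet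
    have hunit : ∀ g : GG F, ∀ h : ∀ v ∈ W, ρ g v ∈ W, LinearMap.det ((ρ g).restrict h) ≠ 0 := by
      intro g h
      have := LinearMap.isUnit_det ((ρ g).restrict h) ((Module.End.isUnit_iff _).2
        ⟨fun x y e => Subtype.ext (rep_injective ρ g (congrArg Subtype.val e)),
          LinearMap.injective_iff_surjective.1
            fun x y e => Subtype.ext (rep_injective ρ g (congrArg Subtype.val e))⟩)
      exact this.ne_zero
    have hpow : c ^ finrank ℂ W = 1 := by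
      refine mul_right_cancel₀ (mul_ne_zero (hunit _ (hA s)) (hunit _ (hB t))) ?_
      rw [one_mul]; exact hdet.symm
    have h3c : c ^ 3 = 1 := pc_pow_three h30 _
    have h1 : c = 1 := by
      rcases hdim with h | h
      · rwa [h, pow_one] at hpow
      · rw [h] at hpow; rwa [pow_succ, hpow, one_mul] at h3c
    rw [hc] at h1
    rw [← h1]; congr 1; ring
  have hz : ∀ s : F, α * s - γ * s ^ 3 = 0 := fun s => by
    by_contra h
    obtain ⟨t, ht⟩ := exists_pc_ne_one h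
    exact ht (key s t)
  have h1 := hz 1
  obtain ⟨s, hs⟩ := exists_cube_ne_self (F := F) hq
  have e : α * (s - s ^ 3) = 0 := by linear_combination hz s - s ^ 3 * h1
  rcases mul_eq_zero.1 e with e' | e'
  · exact hα e'
  · exact hs (sub_eq_zero.1 e').symm

/-- a total multiplicity of the weights with `X_{a+b}`, `X_{3a+b}` non-trivial is zero or large -/
theorem sum_T4_large [DecidableEq F] (h30 : (3 : F) = 0) (hq : 3 < Fintype.card F) {α : F} (hα : α ≠ 0) :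
    ∑ γ ∈ Finset.univ.erase (0 : F), finrank ℂ (T4 ρ α 0 γ 0) = 0 ∨
      3 * (Fintype.card F - 1) ≤ 2 * ∑ γ ∈ Finset.univ.erase (0 : F), finrank ℂ (T4 ρ α 0 γ 0) := by
  by_cases h : ∑ γ ∈ Finset.univ.erase (0 : F), finrank ℂ (T4 ρ α 0 γ 0) = 0
  · exact Or.inl h
  refine Or.inr ?_
  obtain ⟨γ, hγ, hne⟩ := Finset.exists_ne_zero_of_sum_ne_zero h
  have hγ0 := Finset.ne_of_mem_erase hγ
  have h3 : 3 ≤ finrank ℂ (T4 ρ α 0 γ 0) := by
    have := T4_ne_one_two (ρ := ρ) h30 hq (γ := γ) hα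
    omega
  set U := Finset.univ.erase (0 : F) with hU
  set I := U.image (fun x => γ * x ^ 2) with hI
  have hcard : U.card ≤ 2 * I.card := by
    refine Finset.card_le_mul_card_image U 2 fun b hb => ?_
    obtain ⟨x, -, rfl⟩ := Finset.mem_image.1 hb
    refine (Finset.card_le_card (t := {x, -x}) fun y hy => ?_).trans Finset.card_le_two
    rw [Finset.mem_filter] at hy
    rcases sq_eq_sq_iff_eq_or_eq_neg.1 (mul_left_cancel₀ hγ0 hy.2) with e | e <;> simp [e]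
  have hI3 : ∀ b ∈ I, 3 ≤ finrank ℂ (T4 ρ α 0 b 0) := by
    intro b hb
    obtain ⟨x, hx, rfl⟩ := Finset.mem_image.1 hb
    have hx0 := Finset.ne_of_mem_erase hx
    let u : Fˣ := Units.mk0 x⁻¹ (inv_ne_zero hx0)
    refine h3.trans (finrank_T4_torus u u⁻¹ α 0 γ 0 α 0 (γ * x ^ 2) 0 ?_ (zero_mul _) ?_ (zero_mul _))
    · rw [show wt u u⁻¹ 8 = 1 by simp only [wt, show co 8 = (1, 1) from rfl]; group]
      simp
    · rw [show wt u u⁻¹ 10 = u ^ 2 by simp only [wt, show co 10 = (3, 1) from rfl]; group]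
      simp only [u, Units.val_pow_eq_pow_val, Units.val_mk0]
      field_simp
  have h1 := Finset.card_nsmul_le_sum I (fun b => finrank ℂ (T4 ρ α 0 b 0)) 3 hI3
  have hsub : I ⊆ U := fun b hb => by
    obtain ⟨x, hx, rfl⟩ := Finset.mem_image.1 hb
    exact Finset.mem_erase.2 ⟨mul_ne_zero hγ0 (pow_ne_zero _ (Finset.ne_of_mem_erase hx)), Finset.mem_univ _⟩
  have h2 := Finset.sum_le_sum_of_subset (f := fun b => finrank ℂ (T4 ρ α 0 b 0)) hsub
  rw [smul_eq_mul] at h1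
  have hUcard : U.card = Fintype.card F - 1 := by simp [hU]
  omega

/-- the weights of `X_a` for `X_{a+b}` non-trivial -/
theorem T4_alpha_eq (h30 : (3 : F) = 0) {α : F} (hα : α ≠ 0) :
    finrank ℂ (T4 ρ α 0 0 0) = Fintype.card F * finrank ℂ (T4 ρ α 0 0 0 ⊓ ew ρ 7 (0 : F) : Submodule ℂ V) := by
  rw [finrank_split 7 (T4 ρ α 0 0 0) fun t v hv => ⟨⟨⟨stab3 h30 (by decide +kernel) _ _ v hv.1.1.1,
    stab3 h30 (by decide +kernel) _ _ v hv.1.1.2⟩, stab3 h30 (by decide +kernel) _ _ v hv.1.2⟩,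
    ew_cast (by ring) (mem_ew_shift (ρ := ρ) (conj_seven_eight h30 t) hv.2 hv.1.1.2)⟩]
  have hle : ∀ a a' : F, finrank ℂ (T4 ρ α 0 0 0 ⊓ ew ρ 7 a : Submodule ℂ V) ≤
      finrank ℂ (T4 ρ α 0 0 0 ⊓ ew ρ 7 a' : Submodule ℂ V) := by
    intro a a'
    set s := (a - a') / α with hs
    refine finrank_le_of_map (ρ := ρ) (xr 6 s) _ _ fun v hv => ⟨⟨⟨⟨?_, ?_⟩, ?_⟩, ?_⟩, ?_⟩
    · exact stab3 h30 (by decide +kernel) _ _ v hv.1.1.1.1
    · exact stab3 h30 (by decide +kernel) _ _ v hv.1.1.1.2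
    · exact ew_cast (by ring) (mem_ew_shift (ρ := ρ)
        (conj_one (g := 6) (r := 10) (v := 11) (k := 1) (by decide +kernel) s) hv.1.1.2 hv.1.1.1.1)
    · exact stab3 h30 (by decide +kernel) _ _ v hv.1.2
    · refine mem_ew_of fun u => ?_
      obtain ⟨x, y, z, h⟩ := conj_six_seven s u
      rw [h]
      simp only [rho_mul, mem_ew_zero.1 hv.1.1.1.1, mem_ew_zero.1 hv.1.1.2, mem_ew_zero.1 hv.1.1.1.2,
        mem_ew.1 hv.1.2, map_smul, mem_ew.1 hv.2, smul_smul, ← AddChar.map_add_eq_mul]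
      congr 2
      rw [hs]; field_simp; ring
  rw [Finset.sum_congr rfl fun a _ => le_antisymm (hle a 0) (hle 0 a)]
  simp

/-- the weights of `X_b` for `X_{3a+b}` non-trivial -/
theorem T4_gamma_eq (h30 : (3 : F) = 0) {γ : F} (hγ : γ ≠ 0) :
    finrank ℂ (T4 ρ 0 0 γ 0) = Fintype.card F * finrank ℂ (T4 ρ 0 0 γ 0 ⊓ ew ρ 6 (0 : F) : Submodule ℂ V) := by
  rw [finrank_split 6 (T4 ρ 0 0 γ 0) fun t v hv => ⟨⟨⟨stab3 h30 (by decide +kernel) _ _ v hv.1.1.1,
    stab3 h30 (by decide +kernel) _ _ v hv.1.1.2⟩,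
    ew_cast (by ring) (mem_ew_shift (ρ := ρ) (conj_one (g := 6) (r := 10) (v := 11) (k := 1) (by decide +kernel) t)
      hv.1.2 hv.1.1.1)⟩, stab3 h30 (by decide +kernel) _ _ v hv.2⟩]
  have hle : ∀ a a' : F, finrank ℂ (T4 ρ 0 0 γ 0 ⊓ ew ρ 6 a : Submodule ℂ V) ≤
      finrank ℂ (T4 ρ 0 0 γ 0 ⊓ ew ρ 6 a' : Submodule ℂ V) := by
    intro a a'
    obtain ⟨s, hs⟩ := cube_surjective h30 ((a - a') / γ)
    refine finrank_le_of_map (ρ := ρ) (xr 7 s) _ _ fun v hv => ⟨⟨⟨⟨?_, ?_⟩, ?_⟩, ?_⟩, ?_⟩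
    · exact stab3 h30 (by decide +kernel) _ _ v hv.1.1.1.1
    · exact stab3 h30 (by decide +kernel) _ _ v hv.1.1.1.2
    · exact stab3 h30 (by decide +kernel) _ _ v hv.1.1.2
    · exact ew_cast (by ring) (mem_ew_shift (ρ := ρ) (conj_seven_eight h30 s) hv.1.2 hv.1.1.1.2)
    · refine mem_ew_of fun u => ?_
      obtain ⟨y, z, h⟩ := conj_seven_six s u
      rw [h]
      simp only [rho_mul, mem_ew_zero.1 hv.1.1.1.1, mem_ew.1 hv.1.1.2, map_smul, mem_ew_zero.1 hv.1.1.1.2,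
        mem_ew_zero.1 hv.1.2, mem_ew.1 hv.2, smul_smul, ← AddChar.map_add_eq_mul]
      congr 2
      have hs' : γ * s ^ 3 = a - a' := by
        rw [show s ^ 3 = (a - a') / γ from hs, mul_div_cancel₀ _ hγ]
      linear_combination (-u) * hs'
  rw [Finset.sum_congr rfl fun a _ => le_antisymm (hle a 0) (hle 0 a)]
  simp

variable {k : ℕ} {σ : Representation ℂ (GG F) (Fin k → ℂ)}

/-- the generic weight occurs -/
theorem one_le_generic (hσ : σ.IsIrreducible) (hk : 2 ≤ k) (h30 : (3 : F) = 0) (hq : 3 < Fintype.card F) :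
    1 ≤ finrank ℂ (T4 σ (0 : F) 1 0 1) := by
  classical
  by_contra h
  have hM : finrank ℂ (T4 σ (0 : F) 1 0 1) = 0 := by omega
  have hT1 : ∀ β γ δ : F, δ ≠ 0 → finrank ℂ (T1 σ β γ δ) =
      if β = 0 then finrank ℂ (T4 σ (0 : F) 0 0 1) else 0 := fun β γ δ hδ => by
    rw [T1_delta h30 hδ, hM, mul_zero, mul_zero, add_zero]
  by_cases hM0 : finrank ℂ (T4 σ (0 : F) 0 0 1) = 0
  · refine rho_xr_ne_one hσ hk (by omega) 11 one_ne_zero (LinearMap.ext fun v => ?_)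
    have hz : ∀ δ ∈ Finset.univ.erase (0 : F), finrank ℂ (ew σ 11 δ) = 0 := by
      intro δ hδ
      rw [finrank_split 9 (ew σ 11 δ) fun t => stab3 h30 (by decide +kernel) t δ]
      refine Finset.sum_eq_zero fun β _ => ?_
      rw [finrank_split 10 (ew σ 11 δ ⊓ ew σ 9 β) fun t v hv => ⟨stab3 h30 (by decide +kernel) t _ v hv.1,
        stab3 h30 (by decide +kernel) t _ v hv.2⟩]
      refine Finset.sum_eq_zero fun γ _ => ?_
      show finrank ℂ (T1 σ β γ δ) = 0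
      rw [hT1 β γ δ (Finset.ne_of_mem_erase hδ), hM0, ite_self]
    have htop : ew σ 11 (0 : F) = ⊤ := by
      apply Submodule.eq_top_of_finrank_eq
      rw [finrank_top_split (ρ := σ) 11, ← Finset.add_sum_erase _ _ (Finset.mem_univ (0 : F)),
        Finset.sum_eq_zero hz, add_zero]
    exact mem_ew_zero.1 (htop ▸ Submodule.mem_top : v ∈ ew σ 11 (0 : F)) 1
  have hpos : 1 ≤ finrank ℂ (T1 σ (0 : F) 1 0) := by
    rw [T1_gamma h30 one_ne_zero, if_pos rfl, hM]; omega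
  obtain ⟨v, hv, hv0⟩ := Submodule.exists_mem_ne_zero_of_ne_bot
    (p := T1 σ (0 : F) 1 0) (fun e => by rw [e, finrank_bot] at hpos; omega)
  -- `X_a` fixes it
  have hp := perm_nel (F := F) [ib]
  obtain ⟨d, hd, h10⟩ := hp 10
  obtain ⟨e, he, h11⟩ := hp 11
  rw [show sp [ib].reverse 10 = 11 by decide +kernel] at h10
  rw [show sp [ib].reverse 11 = 10 by decide +kernel] at h11
  have hw : σ (nel [ib]) v ∈ T1 σ (0 : F) 0 (1 * e) :=
    ⟨⟨mem_ew_transport h11 hv.2,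
      mem_ew_perm_zero hp 9 (by rw [show sp [ib].reverse 9 = 9 by decide +kernel]; exact hv.1.2)⟩,
      by simpa using mem_ew_transport h10 hv.1.1⟩
  have h8 : σ (nel [ib]) v ∈ ew σ 8 (0 : F) := by
    have hle : T4 σ (0 : F) 0 0 (1 * e) ≤ T1 σ (0 : F) 0 (1 * e) := inf_le_left
    have := Submodule.eq_of_le_of_finrank_le hle (by
      rw [T4_M0 h30 (mul_ne_zero one_ne_zero he), hT1 _ _ _ (mul_ne_zero one_ne_zero he), if_pos rfl])
    rw [← this] at hw
    exact hw.2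
  have h7 : v ∈ ew σ 7 (0 : F) := by
    have := mem_ew_perm_zero (perm_nel_inv (F := F) [ib]) 7
      (by rw [show sp [ib] 7 = 8 by decide +kernel]; exact h8)
    rwa [rho_inv_self] at this
  -- `[X_a, X_b]` then acts trivially, although `X_{3a+b}` does not
  have key : ∀ s t : F, σ (xr 8 (s * t)) v = pc F (s ^ 3 * t) • v := by
    intro s t
    obtain ⟨b, c, h⟩ := conj_seven_six s t
    have hb : σ (xr 6 t) v ∈ T1 σ (0 : F) 1 0 := ⟨⟨stab3 h30 (by decide +kernel) _ _ v hv.1.1,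
      stab3 h30 (by decide +kernel) _ _ v hv.1.2⟩,
      ew_cast (by ring) (mem_ew_shift (ρ := σ) (conj_one (g := 6) (r := 10) (v := 11) (k := 1) (by decide +kernel) t)
        hv.2 hv.1.1)⟩
    -- every vector of this weight space is fixed by `X_a`
    have h7' : ∀ w ∈ T1 σ (0 : F) 1 0, w ∈ ew σ 7 (0 : F) := by
      intro w hw'
      have hw2 : σ (nel [ib]) w ∈ T1 σ (0 : F) 0 (1 * e) :=
        ⟨⟨mem_ew_transport h11 hw'.2,
          mem_ew_perm_zero hp 9 (by rw [show sp [ib].reverse 9 = 9 by decide +kernel]; exact hw'.1.2)⟩,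
          by simpa using mem_ew_transport h10 hw'.1.1⟩
      have hle : T4 σ (0 : F) 0 0 (1 * e) ≤ T1 σ (0 : F) 0 (1 * e) := inf_le_left
      have e1 := Submodule.eq_of_le_of_finrank_le hle (by
        rw [T4_M0 h30 (mul_ne_zero one_ne_zero he), hT1 _ _ _ (mul_ne_zero one_ne_zero he), if_pos rfl])
      rw [← e1] at hw2
      have := mem_ew_perm_zero (perm_nel_inv (F := F) [ib]) 7
        (by rw [show sp [ib] 7 = 8 by decide +kernel]; exact hw2.2)
      rwa [rho_inv_self] at this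
    have e2 : σ ((xr 7 s)⁻¹ * xr 6 t * xr 7 s) v = σ (xr 6 t) v := by
      rw [rho_mul, rho_mul, mem_ew_zero.1 h7, xr_inv, mem_ew_zero.1 (h7' _ hb)]
    rw [h] at e2
    simp only [rho_mul, mem_ew_zero.1 hv.1.1, mem_ew.1 hv.2, map_smul, mem_ew_zero.1 hv.1.2, one_mul] at e2
    rw [← map_smul] at e2
    rw [← map_smul] at e2
    have e3 := rep_injective σ (xr 6 t) e2
    rw [map_smul] at e3
    have e4 := congrArg (fun x => pc F (s ^ 3 * t) • x) e3
    simp only [smul_smul, ← AddChar.map_add_eq_mul, add_neg_cancel, AddChar.map_zero_eq_one, one_smul] at e4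
    exact e4
  obtain ⟨s, hs⟩ := exists_cube_ne_self (F := F) hq
  have hz : s ^ 3 - s = 0 := by
    by_contra hne
    obtain ⟨t, ht⟩ := exists_pc_ne_one hne
    have h1 := key 1 (s * t)
    simp only [one_pow, one_mul] at h1
    have h2 := key s t
    rw [h1] at h2
    apply ht
    have := smul_left_injective ℂ hv0 h2
    rw [sub_mul, sub_eq_add_neg, AddChar.map_add_eq_mul, AddChar.map_neg_eq_inv, ← this,
      mul_inv_cancel₀]
    intro h0
    have := pc_pow_three (F := F) h30 (s * t)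
    rw [h0] at this
    simp at this
  exact hs (sub_eq_zero.1 hz)

/-- the degree as a combination of the multiplicities -/
theorem degree_count [DecidableEq F] (h30 : (3 : F) = 0) : finrank ℂ V =
    (Fintype.card F - 1) * ((Fintype.card F - 1) * (Fintype.card F * (Fintype.card F * finrank ℂ (T4 ρ (0 : F) 1 0 1))) +
      Fintype.card F * (finrank ℂ (T4 ρ (0 : F) 0 0 1) + (Fintype.card F - 1) * finrank ℂ (T4 ρ (0 : F) 1 0 1))) +
    (Fintype.card F - 1) * ((Fintype.card F - 1) * (Fintype.card F * finrank ℂ (T4 ρ (0 : F) 1 0 1)) +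
      Fintype.card F * finrank ℂ (T4 ρ (0 : F) 1 0 0)) +
    (Fintype.card F - 1) * (finrank ℂ (T4 ρ (0 : F) 0 0 1) +
      (Fintype.card F - 1) * finrank ℂ (T4 ρ (0 : F) 1 0 1)) +
    ∑ α ∈ Finset.univ.erase (0 : F), finrank ℂ (T4 ρ α 0 0 0) + finrank ℂ (T4 ρ (0 : F) 0 0 0) := by
  classical
  have hU : ∀ δ β : F, finrank ℂ (ew ρ 11 δ ⊓ ew ρ 9 β : Submodule ℂ V) = ∑ γ : F, finrank ℂ (T1 ρ β γ δ) :=
    fun δ β => finrank_split 10 _ fun t v hv => ⟨stab3 h30 (by decide +kernel) t _ v hv.1,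
      stab3 h30 (by decide +kernel) t _ v hv.2⟩
  have hD : ∀ δ : F, finrank ℂ (ew ρ 11 δ) = ∑ β : F, ∑ γ : F, finrank ℂ (T1 ρ β γ δ) := fun δ => by
    rw [finrank_split 9 (ew ρ 11 δ) fun t => stab3 h30 (by decide +kernel) t δ]
    exact Finset.sum_congr rfl fun β _ => hU δ β
  have hd : ∀ δ ∈ Finset.univ.erase (0 : F), finrank ℂ (ew ρ 11 δ) =
      Fintype.card F * (finrank ℂ (T4 ρ (0 : F) 0 0 1) + (Fintype.card F - 1) * finrank ℂ (T4 ρ (0 : F) 1 0 1)) +
      (Fintype.card F - 1) * (Fintype.card F * (Fintype.card F * finrank ℂ (T4 ρ (0 : F) 1 0 1))) := fun δ hδ => by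
    have h := Finset.ne_of_mem_erase hδ
    rw [hD, sum_zero_rest _ _ fun β hβ => (Finset.sum_congr rfl fun γ _ =>
      (T1_delta h30 h β γ).trans (if_neg hβ)).trans (by rw [Finset.sum_const, smul_eq_mul, Finset.card_univ])]
    rw [Finset.sum_congr rfl fun γ _ => (T1_delta h30 h 0 γ).trans (if_pos rfl)]
    simp
  have hb : ∀ β : F, β ≠ 0 → ∑ γ : F, finrank ℂ (T1 ρ β γ 0) =
      Fintype.card F * finrank ℂ (T4 ρ (0 : F) 1 0 0) +
        (Fintype.card F - 1) * (Fintype.card F * finrank ℂ (T4 ρ (0 : F) 1 0 1)) := fun β hβ => by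
    rw [sum_zero_rest _ _ fun γ hγ => (T1_gamma h30 hγ β).trans (if_neg hβ), T1_split h30,
      Finset.sum_congr rfl fun α _ => T4_N0 h30 hβ α]
    simp
  rw [finrank_top_split (ρ := ρ) 11, ← Finset.add_sum_erase _ _ (Finset.mem_univ (0 : F)), Finset.sum_congr rfl hd,
    hD, sum_zero_rest _ _ hb, sum_zero_rest _ _ fun γ hγ => (T1_gamma h30 hγ 0).trans (if_pos rfl), T1_split h30,
    ← Finset.add_sum_erase _ _ (Finset.mem_univ (0 : F))]
  simp only [Finset.sum_const, Finset.card_erase_of_mem (Finset.mem_univ _), Finset.card_univ, smul_eq_mul]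
  ring

theorem fixed_T4_zero_ge (h30 : (3 : F) = 0) [DecidableEq F] (hq : 2 < Fintype.card F)
    (hA : ∀ α : F, α ≠ 0 → finrank ℂ (T4 ρ α 0 0 0 ⊓ ew ρ 7 (0 : F) : Submodule ℂ V) = 1)
    (hC : ∀ γ : F, γ ≠ 0 → finrank ℂ (T4 ρ 0 0 γ 0 ⊓ ew ρ 6 (0 : F) : Submodule ℂ V) = 1) :
    2 * (Fintype.card F - 1) ≤ finrank ℂ (T4 ρ (0 : F) 0 0 0) := by
  set W := T4 ρ (0 : F) 0 0 0 with hW
  have hstab : ∀ t, ∀ v ∈ W, ρ (xr 6 t) v ∈ W := fun t v hv => ⟨⟨⟨stab3 h30 (by decide +kernel) _ _ v hv.1.1.1,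
    stab3 h30 (by decide +kernel) _ _ v hv.1.1.2⟩,
    ew_cast (by ring) (mem_ew_shift (ρ := ρ) (conj_one (g := 6) (r := 10) (v := 11) (k := 1) (by decide +kernel) t)
      hv.1.2 hv.1.1.1)⟩, stab3 h30 (by decide +kernel) _ _ v hv.2⟩
  have hb : ∀ c ∈ Finset.univ.erase (0 : F), 1 ≤ finrank ℂ (W ⊓ ew ρ 6 c : Submodule ℂ V) := by
    intro c hc
    have hp := perm_nel (F := F) [ia]
    obtain ⟨d, hd, h6⟩ := hp 6
    rw [show sp [ia].reverse 6 = 10 by decide +kernel] at h6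
    rw [← hC (c / d) (div_ne_zero (Finset.ne_of_mem_erase hc) hd)]
    refine finrank_le_of_map (ρ := ρ) (nel [ia]) _ _ fun v hv => ⟨⟨⟨⟨?_, ?_⟩, ?_⟩, ?_⟩, ?_⟩
    · exact mem_ew_perm_zero hp 11 (by rw [show sp [ia].reverse 11 = 11 by decide +kernel]; exact hv.1.1.1.1)
    · exact mem_ew_perm_zero hp 9 (by rw [show sp [ia].reverse 9 = 8 by decide +kernel]; exact hv.1.2)
    · exact mem_ew_perm_zero hp 10 (by rw [show sp [ia].reverse 10 = 6 by decide +kernel]; exact hv.2)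
    · exact mem_ew_perm_zero hp 8 (by rw [show sp [ia].reverse 8 = 9 by decide +kernel]; exact hv.1.1.1.2)
    · exact ew_cast (div_mul_cancel₀ _ hd) (mem_ew_transport h6 hv.1.1.2)
  set Z := W ⊓ ew ρ 6 (0 : F) with hZ
  have hZstab : ∀ t, ∀ v ∈ Z, ρ (xr 7 t) v ∈ Z := by
    intro t v hv
    refine ⟨⟨⟨⟨stab3 h30 (by decide +kernel) _ _ v hv.1.1.1.1, stab3 h30 (by decide +kernel) _ _ v hv.1.1.1.2⟩,
      stab3 h30 (by decide +kernel) _ _ v hv.1.1.2⟩,
      ew_cast (by ring) (mem_ew_shift (ρ := ρ) (conj_seven_eight h30 t) hv.1.2 hv.1.1.1.2)⟩, mem_ew_of fun u => ?_⟩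
    obtain ⟨y, z, h⟩ := conj_seven_six t u
    rw [h]
    simp only [rho_mul, mem_ew_zero.1 hv.1.1.1.1, mem_ew_zero.1 hv.1.1.2, mem_ew_zero.1 hv.1.1.1.2,
      mem_ew_zero.1 hv.1.2, mem_ew_zero.1 hv.2]
    simp
  have ha : ∀ a ∈ Finset.univ.erase (0 : F), 1 ≤ finrank ℂ (Z ⊓ ew ρ 7 a : Submodule ℂ V) := by
    intro a ha
    have ha0 := Finset.ne_of_mem_erase ha
    have hp := perm_nel (F := F) [ib]
    obtain ⟨d, hd, h7⟩ := hp 7
    rw [show sp [ib].reverse 7 = 8 by decide +kernel] at h7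
    obtain ⟨e, he, h8⟩ := hp 8
    rw [show sp [ib].reverse 8 = 7 by decide +kernel] at h8
    have hp' := perm_nel_inv (F := F) [ib]
    -- the line with the given weight
    have h1 : 1 ≤ finrank ℂ (W ⊓ ew ρ 7 a : Submodule ℂ V) := by
      rw [← hA (a / d) (div_ne_zero ha0 hd)]
      refine finrank_le_of_map (ρ := ρ) (nel [ib]) _ _ fun v hv => ⟨⟨⟨⟨?_, ?_⟩, ?_⟩, ?_⟩, ?_⟩
      · exact mem_ew_perm_zero hp 11 (by rw [show sp [ib].reverse 11 = 10 by decide +kernel]; exact hv.1.1.2)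
      · exact mem_ew_perm_zero hp 9 (by rw [show sp [ib].reverse 9 = 9 by decide +kernel]; exact hv.1.1.1.2)
      · exact mem_ew_perm_zero hp 10 (by rw [show sp [ib].reverse 10 = 11 by decide +kernel]; exact hv.1.1.1.1)
      · simpa using mem_ew_transport h8 hv.2
      · exact ew_cast (div_mul_cancel₀ _ hd) (mem_ew_transport h7 hv.1.2)
    have h2 : finrank ℂ (W ⊓ ew ρ 7 a : Submodule ℂ V) ≤ 1 := by
      obtain ⟨d', hd', g8⟩ := hp' 8
      rw [show sp [ib] 8 = 7 by decide +kernel] at g8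
      refine (finrank_le_of_map (ρ := ρ) (nel [ib])⁻¹ (W ⊓ ew ρ 7 a)
        (T4 ρ (a * d') 0 0 0 ⊓ ew ρ 7 (0 : F)) fun v hv => ⟨⟨⟨⟨?_, ?_⟩, ?_⟩, ?_⟩, ?_⟩).trans
        (hA _ (mul_ne_zero ha0 hd')).le
      · exact mem_ew_perm_zero hp' 11 (by rw [show sp [ib] 11 = 10 by decide +kernel]; exact hv.1.1.2)
      · exact mem_ew_perm_zero hp' 9 (by rw [show sp [ib] 9 = 9 by decide +kernel]; exact hv.1.1.1.2)
      · exact mem_ew_perm_zero hp' 10 (by rw [show sp [ib] 10 = 11 by decide +kernel]; exact hv.1.1.1.1)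
      · exact mem_ew_transport g8 hv.2
      · exact mem_ew_perm_zero hp' 7 (by rw [show sp [ib] 7 = 8 by decide +kernel]; exact hv.1.2)
    refine h1.trans (Submodule.finrank_mono fun v hv => ⟨⟨hv.1, ?_⟩, hv.2⟩)
    obtain ⟨y, hy⟩ : ∃ y : Fˣ, y ≠ 1 := by
      haveI : Nontrivial Fˣ := Fintype.one_lt_card_iff_nontrivial.1 (by rw [Fintype.card_units]; omega)
      exact exists_ne 1
    refine fixed_of_scaled (W := W ⊓ ew ρ 7 a) (fun t w hw => ⟨hstab t w hw.1, mem_ew_of fun u => ?_⟩) h2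
      (g := tt 1 y⁻¹) (d := (y : F)) (fun w hw => ?_) (fun h => hy (Units.ext h)) (fun t => ?_) hv
    · obtain ⟨x1, y1, z1, h⟩ := conj_six_seven t u
      rw [h]
      simp only [rho_mul, mem_ew_zero.1 hw.1.1.1.1, mem_ew_zero.1 hw.1.1.1.2, mem_ew_zero.1 hw.1.1.2,
        mem_ew_zero.1 hw.1.2, mem_ew.1 hw.2]
    · exact ⟨⟨⟨⟨by simpa using mem_ew_transport (tt_conj' (1 : Fˣ) y⁻¹ 11) hw.1.1.1.1,
        by simpa using mem_ew_transport (tt_conj' (1 : Fˣ) y⁻¹ 9) hw.1.1.1.2⟩,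
        by simpa using mem_ew_transport (tt_conj' (1 : Fˣ) y⁻¹ 10) hw.1.1.2⟩,
        by simpa using mem_ew_transport (tt_conj' (1 : Fˣ) y⁻¹ 8) hw.1.2⟩,
        by simpa [wt, show co 7 = (1, 0) from rfl] using mem_ew_transport (tt_conj' (1 : Fˣ) y⁻¹ 7) hw.2⟩
    · rw [tt_conj']
      simp [wt, show co 6 = (0, 1) from rfl]
  have e1 := Finset.card_nsmul_le_sum _ (fun c => finrank ℂ (W ⊓ ew ρ 6 c : Submodule ℂ V)) 1 hb
  have e2 := Finset.card_nsmul_le_sum _ (fun a => finrank ℂ (Z ⊓ ew ρ 7 a : Submodule ℂ V)) 1 ha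
  have s1 := finrank_split 6 W hstab
  have s2 := finrank_split 7 Z hZstab
  rw [← Finset.add_sum_erase _ _ (Finset.mem_univ (0 : F))] at s1 s2
  simp only [Finset.card_erase_of_mem (Finset.mem_univ _), Finset.card_univ, smul_eq_mul, mul_one] at e1 e2
  rw [← hZ] at s1
  omega

end CfsgLib.G2Deg
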