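import Cfsg.Agent.Lib.G2Deg.OneMod
import Cfsg.Agent.Lib.G2Deg.ThreeBound

/-!
Lower bounds for the degrees of the irreducible representations of `G₂(q)`.
-/

set_option autoImplicit false
set_option linter.unusedSectionVars false

namespace CfsgLib.G2Deg

open Cfsg.Lie CfsgLib.Chev CfsgLib.G2Invol CfsgLib.MinDeg Module

variable {F : Type*} [Field F] [Fintype F] {k : ℕ} {ρ : Representation ℂ (GG F) (Fin k → ℂ)}

theorem three_ne_zero_of_mod (h : Fintype.card F % 3 ≠ 0) : (3 : F) ≠ 0 := by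
  intro h30
  obtain ⟨p, hp⟩ := CharP.exists F
  haveI := hp
  obtain ⟨n, hpp, hn⟩ := FiniteField.card F p
  have h3 : p ∣ 3 := (CharP.cast_eq_zero_iff F p 3).1 (by exact_mod_cast h30)
  rw [(Nat.prime_dvd_prime_iff_eq hpp Nat.prime_three).1 h3] at hn
  exact h (by rw [hn]; exact Nat.mod_eq_zero_of_dvd (dvd_pow_self 3 n.ne_zero))

theorem three_eq_zero_of_mod (h : Fintype.card F % 3 = 0) : (3 : F) = 0 := by
  obtain ⟨p, hp⟩ := CharP.exists F
  haveI := hp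
  obtain ⟨n, hpp, hn⟩ := FiniteField.card F p
  have h3 : 3 ∣ p := Nat.prime_three.dvd_of_dvd_pow (hn ▸ Nat.dvd_of_mod_eq_zero h)
  have h3' : ((p : ℕ) : F) = 0 := CharP.cast_eq_zero F p
  rw [← (Nat.prime_dvd_prime_iff_eq Nat.prime_three hpp).1 h3] at h3'
  exact_mod_cast h3'

theorem eight_lt_of_mod (h : Fintype.card F % 3 = 0) (h3 : 3 < Fintype.card F) : 8 < Fintype.card F := by
  obtain ⟨p, hp⟩ := CharP.exists F
  haveI := hp
  obtain ⟨n, hpp, hn⟩ := FiniteField.card F p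
  have hp3 : p = 3 := ((Nat.prime_dvd_prime_iff_eq Nat.prime_three hpp).1
    (Nat.prime_three.dvd_of_dvd_pow (hn ▸ Nat.dvd_of_mod_eq_zero h))).symm
  rw [hp3] at hn
  rcases Nat.lt_or_ge (n : ℕ) 2 with h2 | h2
  · interval_cases hn' : (n : ℕ)
    · simp at hn; omega
    · simp at hn; omega
  · have := Nat.pow_le_pow_right (show 1 ≤ 3 by norm_num) h2
    omega

/-- three exceptional values do not divide the group order -/
theorem not_dvd_order {q k : ℕ} (hq : 8 < q) (h3 : q % 3 = 0) (hodd : q % 2 = 1) (hcop : ∀ d, Nat.Coprime q d →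
    d ∣ q ^ 6 * (q ^ 2 - 1) * (q ^ 6 - 1) → d ∣ (q ^ 2 - 1) * (q ^ 6 - 1))
    (hk : k + 2 = q ^ 4 + q ^ 2 ∨ k + 1 = q ^ 4 + q ^ 2 ∨ k = q ^ 4 + q ^ 2) :
    ¬ k ∣ q ^ 6 * (q ^ 2 - 1) * (q ^ 6 - 1) := by
  intro hdvd
  obtain ⟨a, ha⟩ : ∃ a, q ^ 2 = a + 1 := ⟨q ^ 2 - 1, by have := Nat.one_le_pow 2 q (by omega); omega⟩
  have ha80 : 80 ≤ a := by nlinarith
  have e4 : q ^ 4 = (a + 1) ^ 2 := by rw [← ha]; ring
  have hP : (q ^ 2 - 1) * (q ^ 6 - 1) = a * (a * (a ^ 2 + 3 * a + 3)) := by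
    have e6 : q ^ 6 = a * (a ^ 2 + 3 * a + 3) + 1 := by
      rw [show q ^ 6 = (q ^ 2) ^ 3 by ring, ha]; ring
    rw [ha, e6, Nat.add_sub_cancel, Nat.add_sub_cancel]
  have reduce : ∀ d, d ∣ k → Nat.Coprime q d → d ∣ a * (a * (a ^ 2 + 3 * a + 3)) := fun d hd hc =>
    hP ▸ hcop d hc (hd.trans hdvd)
  rcases hk with hk | hk | hk
  · -- q⁴ + q² - 2 = (a+3) a
    have hka : k = (a + 3) * a := by nlinarith
    have hc : Nat.Coprime q (a + 3) := by
      have e : a + 3 = q ^ 2 + 2 := by omega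
      rw [e, pow_two, Nat.coprime_mul_left_add_right]
      exact Nat.coprime_two_right.2 (Nat.odd_iff.2 hodd)
    have h1 := reduce (a + 3) (hka ▸ dvd_mul_right _ _) hc
    have h3' : Nat.Coprime 3 (a + 3) := by
      rw [Nat.prime_three.coprime_iff_not_dvd]
      intro hd
      have : (q ^ 2 + 2) % 3 = 0 := by
        rw [show q ^ 2 + 2 = a + 3 by omega]; exact Nat.mod_eq_zero_of_dvd hd
      rw [Nat.add_mod, Nat.pow_mod, h3] at this
      norm_num at this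
    have h9 : a + 3 ∣ 27 := by
      have hz : ((a : ℤ) + 3) ∣ (27 : ℤ) := by
        have h1z : ((a : ℤ) + 3) ∣ (a : ℤ) * ((a : ℤ) * ((a : ℤ) ^ 2 + 3 * a + 3)) := by exact_mod_cast h1
        have h2z : ((a : ℤ) + 3) ∣ (a : ℤ) * ((a : ℤ) * ((a : ℤ) ^ 2 + 3 * a + 3)) - 27 :=
          ⟨(a : ℤ) ^ 3 + 3 * a - 9, by ring⟩
        have := dvd_sub h1z h2z
        rwa [sub_sub_cancel] at this
      exact_mod_cast hz
    have := Nat.le_of_dvd (by norm_num) h9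
    omega
  · -- q⁴ + q² - 1 = a² + 3 a + 1
    have hka : k = a ^ 2 + 3 * a + 1 := by nlinarith
    have hc : Nat.Coprime q k := by
      refine Nat.Coprime.symm (Nat.coprime_of_dvd fun r hr h1 h2 => ?_)
      have : r ∣ q ^ 4 + q ^ 2 := (dvd_pow h2 (by norm_num)).add (dvd_pow h2 two_ne_zero)
      rw [← hk] at this
      exact hr.one_lt.ne' (Nat.dvd_one.1 ((Nat.dvd_add_right h1).1 this))
    have h1 := reduce k dvd_rfl hc
    have h2 : k ∣ 6 * a + 2 := by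
      have hz : ((a : ℤ) ^ 2 + 3 * a + 1) ∣ ((6 : ℤ) * a + 2) := by
        have h1z : ((a : ℤ) ^ 2 + 3 * a + 1) ∣ (a : ℤ) * ((a : ℤ) * ((a : ℤ) ^ 2 + 3 * a + 3)) := by
          rw [hka] at h1; exact_mod_cast h1
        have h2z : ((a : ℤ) ^ 2 + 3 * a + 1) ∣
            (a : ℤ) * ((a : ℤ) * ((a : ℤ) ^ 2 + 3 * a + 3)) + ((6 : ℤ) * a + 2) :=
          ⟨(a : ℤ) ^ 2 + 2, by ring⟩
        exact (dvd_add_right h1z).1 h2z
      rw [hka]; exact_mod_cast hz
    have := Nat.le_of_dvd (by omega) h2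
    nlinarith
  · -- q⁴ + q² = q² (q² + 1)
    have hka : k = (a + 1) * (a + 2) := by nlinarith
    have hc : Nat.Coprime q (a + 2) := by
      rw [show a + 2 = q ^ 2 + 1 by omega, pow_two, Nat.coprime_mul_left_add_right]
      exact Nat.coprime_one_right q
    have h1 := reduce (a + 2) (hka ▸ dvd_mul_left _ _) hc
    have h4 : a + 2 ∣ 4 := by
      have hz : ((a : ℤ) + 2) ∣ (4 : ℤ) := by
        have h1z : ((a : ℤ) + 2) ∣ (a : ℤ) * ((a : ℤ) * ((a : ℤ) ^ 2 + 3 * a + 3)) := by exact_mod_cast h1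
        have h2z : ((a : ℤ) + 2) ∣ (a : ℤ) * ((a : ℤ) * ((a : ℤ) ^ 2 + 3 * a + 3)) - 4 :=
          ⟨(a : ℤ) ^ 3 + (a : ℤ) ^ 2 + a - 2, by ring⟩
        have := dvd_sub h1z h2z
        rwa [sub_sub_cancel] at this
      exact_mod_cast hz
    have := Nat.le_of_dvd (by norm_num) h4
    omega

/-- the bound in characteristic three -/
theorem three_bound (hρ : ρ.IsIrreducible) (hk : 2 ≤ k) (hmod : Fintype.card F % 3 = 0)
    (hq3 : 3 < Fintype.card F) : Fintype.card F ^ 4 + Fintype.card F ^ 2 + 1 ≤ k := by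
  classical
  have h30 := three_eq_zero_of_mod hmod
  have hq := eight_lt_of_mod hmod hq3
  have hM1 := one_le_generic hρ hk h30 hq3
  have hk' := degree_count (ρ := ρ) h30
  rw [Module.finrank_fin_fun] at hk'
  have hA := fun α (hα : α ≠ (0 : F)) => (T2_split (ρ := ρ) h30 α 0 0).symm.trans (T2_alpha h30 hα)
  have hC := fun γ (hγ : γ ≠ (0 : F)) => (T1_split (ρ := ρ) h30 0 γ 0).symm.trans
    ((T1_gamma h30 hγ 0).trans (if_pos rfl))
  have hlarge := fun α (hα : α ≠ (0 : F)) => sum_T4_large (ρ := ρ) h30 hq3 hα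
  have hAq := fun α (hα : α ≠ (0 : F)) => T4_alpha_eq (ρ := ρ) h30 hα
  have hCq := fun γ (hγ : γ ≠ (0 : F)) => T4_gamma_eq (ρ := ρ) h30 hγ
  set q := Fintype.card F with hqdef
  set U := Finset.univ.erase (0 : F) with hU
  have hUcard : U.card = q - 1 := by simp [hU, hqdef]
  set M := finrank ℂ (T4 ρ (0 : F) 1 0 1)
  set M0 := finrank ℂ (T4 ρ (0 : F) 0 0 1)
  set N0 := finrank ℂ (T4 ρ (0 : F) 1 0 0)
  set f0 := finrank ℂ (T4 ρ (0 : F) 0 0 0)
  obtain ⟨n, hn⟩ : ∃ n, q = n + 1 := ⟨q - 1, by omega⟩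
  rcases Nat.lt_or_ge M 2 with hM | hM
  swap
  · have e1 : n * (n * ((n + 1) * ((n + 1) * 2))) + n * ((n + 1) * (n * 2)) + n * (n * ((n + 1) * 2)) ≤ k := by
      rw [hk']; simp only [hn, Nat.add_sub_cancel]
      have a1 : n * (n * ((n + 1) * ((n + 1) * 2))) ≤ n * (n * ((n + 1) * ((n + 1) * M))) := by gcongr
      have a2 : n * ((n + 1) * (n * 2)) ≤ n * ((n + 1) * (n * M)) := by gcongr
      have a3 : n * (n * ((n + 1) * 2)) ≤ n * (n * ((n + 1) * M)) := by gcongr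
      simp only [mul_add]
      omega
    refine le_trans ?_ e1
    rw [hn]
    have : 8 ≤ n := by omega
    nlinarith [Nat.mul_le_mul (Nat.mul_le_mul this this) (Nat.mul_le_mul this this),
      Nat.mul_le_mul (Nat.mul_le_mul this this) (le_refl (n * n)),
      Nat.mul_le_mul this (le_refl (n * n * n)), Nat.mul_le_mul this (le_refl (n * n)), Nat.mul_le_mul this (le_refl n)]
  have hM' : M = 1 := by omega
  rw [hM'] at hk'
  simp only [mul_one] at hk'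
  have hX : ∀ α ∈ U, finrank ℂ (T4 ρ α 0 0 0) + ∑ γ ∈ U, finrank ℂ (T4 ρ α 0 γ 0) = N0 + n := by
    intro α hα
    have h := hA α (Finset.ne_of_mem_erase hα)
    rw [← Finset.add_sum_erase _ _ (Finset.mem_univ (0 : F)), ← hU] at h
    rw [h]
    show N0 + (q - 1) * M = N0 + n
    rw [hM', mul_one, hn, Nat.add_sub_cancel]
  have hC' : ∀ γ ∈ U, finrank ℂ (T4 ρ 0 0 γ 0) + ∑ α ∈ U, finrank ℂ (T4 ρ α 0 γ 0) = M0 + n := by
    intro γ hγ
    have h := hC γ (Finset.ne_of_mem_erase hγ)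
    rw [← Finset.add_sum_erase _ _ (Finset.mem_univ (0 : F)), ← hU] at h
    rw [h]
    show M0 + (q - 1) * M = M0 + n
    rw [hM', mul_one, hn, Nat.add_sub_cancel]
  obtain ⟨L, hL⟩ : ∃ L, ∑ α ∈ U, finrank ℂ (T4 ρ α 0 0 0) = n * (q * L) := by
    have hconst : ∀ α ∈ U, finrank ℂ (T4 ρ α 0 0 0) = finrank ℂ (T4 ρ (1 : F) 0 0 0) := by
      intro α hα
      let c : Fˣ := Units.mk0 α (Finset.ne_of_mem_erase hα)
      refine le_antisymm (finrank_T4_torus c 1 _ _ _ _ _ _ _ _ ?_ (zero_mul _) (zero_mul _) (zero_mul _))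
        (finrank_T4_torus c⁻¹ 1 _ _ _ _ _ _ _ _ ?_ (zero_mul _) (zero_mul _) (zero_mul _))
      · simp [c, wt, show co 8 = (1, 1) from rfl]
      · simp [c, wt, show co 8 = (1, 1) from rfl, Finset.ne_of_mem_erase hα]
    refine ⟨finrank ℂ (T4 ρ (1 : F) 0 0 0 ⊓ ew ρ 7 (0 : F) : Submodule ℂ (Fin k → ℂ)), ?_⟩
    rw [Finset.sum_congr rfl hconst, Finset.sum_const, smul_eq_mul, hUcard, hAq 1 one_ne_zero, hn,
      Nat.add_sub_cancel]
  rw [hL] at hk'
  by_cases hbig : 4 ≤ M0 + N0 + L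
  · rw [hk']; simp only [hn, Nat.add_sub_cancel]
    have : 8 ≤ n := by omega
    have a1 : n * ((n + 1) * 4) ≤ n * ((n + 1) * (M0 + N0 + L)) := by gcongr
    have a2 : n * 0 ≤ n * M0 := by gcongr; omega
    nlinarith [Nat.mul_le_mul this (le_refl n)]
  -- now the small multiplicities are all one
  have hone : 1 ∈ U := Finset.mem_erase.2 ⟨one_ne_zero, Finset.mem_univ _⟩
  have hL1 : ∀ α ∈ U, finrank ℂ (T4 ρ α 0 0 0 ⊓ ew ρ 7 (0 : F) : Submodule ℂ (Fin k → ℂ)) = 1 ∧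
      ∑ γ ∈ U, finrank ℂ (T4 ρ α 0 γ 0) = 0 ∧ N0 = 1 := by
    intro α hα
    have h := hX α hα
    have h2 := hlarge α (Finset.ne_of_mem_erase hα)
    rw [hn, Nat.add_sub_cancel] at h2
    rw [hAq α (Finset.ne_of_mem_erase hα), hn] at h
    generalize finrank ℂ (T4 ρ α 0 0 0 ⊓ ew ρ 7 (0 : F) : Submodule ℂ (Fin k → ℂ)) = l at h
    rcases Nat.lt_or_ge l 2 with hl | hl
    · rcases Nat.lt_or_ge l 1 with hl0 | hl0
      · obtain rfl : l = 0 := by omega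
        omega
      · obtain rfl : l = 1 := by omega
        omega
    · have : (n + 1) * 2 ≤ (n + 1) * l := by gcongr
      omega
  obtain ⟨-, -, hN1⟩ := hL1 1 hone
  have hXz : ∀ γ ∈ U, ∑ α ∈ U, finrank ℂ (T4 ρ α 0 γ 0) = 0 := fun γ hγ =>
    Finset.sum_eq_zero fun α hα => Nat.eq_zero_of_le_zero
      ((Finset.single_le_sum (f := fun g => finrank ℂ (T4 ρ α 0 g 0)) (fun _ _ => Nat.zero_le _) hγ).trans
        (hL1 α hα).2.1.le)
  have hL2 : ∀ γ ∈ U, finrank ℂ (T4 ρ 0 0 γ 0 ⊓ ew ρ 6 (0 : F) : Submodule ℂ (Fin k → ℂ)) = 1 ∧ M0 = 1 := by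
    intro γ hγ
    have h := hC' γ hγ
    rw [hXz γ hγ, add_zero, hCq γ (Finset.ne_of_mem_erase hγ), hn] at h
    generalize finrank ℂ (T4 ρ 0 0 γ 0 ⊓ ew ρ 6 (0 : F) : Submodule ℂ (Fin k → ℂ)) = l at h
    rcases Nat.lt_or_ge l 2 with hl | hl
    · rcases Nat.lt_or_ge l 1 with hl0 | hl0
      · obtain rfl : l = 0 := by omega
        omega
      · obtain rfl : l = 1 := by omega
        omega
    · have : (n + 1) * 2 ≤ (n + 1) * l := by gcongr
      omega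
  obtain ⟨-, hM01⟩ := hL2 1 hone
  have hLone : L = 1 := by
    have h := Finset.sum_congr rfl fun α hα => show finrank ℂ (T4 ρ α 0 0 0) = q * 1 by
      rw [hAq α (Finset.ne_of_mem_erase hα), (hL1 α hα).1]
    rw [hL, Finset.sum_const, smul_eq_mul, hUcard, hn, Nat.add_sub_cancel] at h
    exact Nat.eq_of_mul_eq_mul_left (by omega) (Nat.eq_of_mul_eq_mul_left (by omega) h)
  have hf0 : 2 * (q - 1) ≤ f0 := fixed_T4_zero_ge (ρ := ρ) h30 (by omega)
    (fun α hα => (hL1 α (Finset.mem_erase.2 ⟨hα, Finset.mem_univ _⟩)).1)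
    (fun γ hγ => (hL2 γ (Finset.mem_erase.2 ⟨hγ, Finset.mem_univ _⟩)).1)
  rw [hM01, hN1, hLone] at hk'
  have hlow : q ^ 4 + q ^ 2 ≤ k + 2 := by
    rw [hk']; simp only [hn, Nat.add_sub_cancel] at hf0 ⊢
    nlinarith
  by_contra hlt
  have hcases : k + 2 = q ^ 4 + q ^ 2 ∨ k + 1 = q ^ 4 + q ^ 2 ∨ k = q ^ 4 + q ^ 2 := by omega
  have hodd : q % 2 = 1 := by
    obtain ⟨p, hp⟩ := CharP.exists F
    haveI := hp
    obtain ⟨m, hpp, hm⟩ := FiniteField.card F p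
    have hp3 : p = 3 := ((Nat.prime_dvd_prime_iff_eq Nat.prime_three hpp).1
      (Nat.prime_three.dvd_of_dvd_pow (hm ▸ Nat.dvd_of_mod_eq_zero (show Fintype.card F % 3 = 0 from hmod)))).symm
    rw [hqdef, hm, hp3, Nat.pow_mod]; norm_num
  haveI : ρ.IsIrreducible := hρ
  have hdvd := CfsgLib.Char.finrank_dvd_card ρ
  rw [Module.finrank_fin_fun, card_group_G2 rfl] at hdvd
  exact not_dvd_order hq hmod hodd (fun d hd hdv => ((hd.pow_left 6).symm.dvd_of_dvd_mul_left (by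
    rw [← mul_assoc]; exact hdv))) hcases hdvd

theorem min_degree (hρ : ρ.IsIrreducible) (hk : 2 ≤ k) :
    (Fintype.card F % 3 = 1 → 4 < Fintype.card F → Fintype.card F ^ 3 + 1 ≤ k) ∧
    (Fintype.card F % 3 = 2 → 2 < Fintype.card F → Fintype.card F ^ 3 - 1 ≤ k) ∧
    (Fintype.card F % 3 = 0 → 3 < Fintype.card F → Fintype.card F ^ 4 + Fintype.card F ^ 2 + 1 ≤ k) :=
  ⟨fun h hq => pow_three_lt hρ hk hq h (three_ne_zero_of_mod (by omega)),
    fun h hq => (pow_three_sub_one_le hρ hk (by omega) (three_ne_zero_of_mod (by omega))).1,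
    fun h hq => three_bound hρ hk h hq⟩

end CfsgLib.G2Deg
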