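import Cfsg.Agent.Lib.G2Deg.Weights

/-!
Weight multiplicities of `(X_{2a+b}, X_{3a+b}, X_{3a+2b})` when the characteristic is not three.
Roots: `b = 6`, `a = 7`, `a+b = 8`, `2a+b = 9`, `3a+b = 10`, `3a+2b = 11`, `-r = 11 - r`.
-/

set_option autoImplicit false
set_option linter.unusedSectionVars false

namespace CfsgLib.G2Deg

open Cfsg.Lie CfsgLib.Chev CfsgLib.G2Invol CfsgLib.MinDeg Module

variable {F : Type*} [Field F] [Fintype F]
variable {V : Type*} [AddCommGroup V] [Module ℂ V] [FiniteDimensional ℂ V]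
variable (ρ : Representation ℂ (GG F) V)

/-- the pairs of roots whose root subgroups commute -/
def Commutes (g r : Fin 12) : Prop :=
  r = g ∨ (r ≠ g ∧ r.val ≠ chevG2.neg g.val ∧ chevG2.commTerms g.val r.val = [])

instance (g r : Fin 12) : Decidable (Commutes g r) := by unfold Commutes; infer_instance

theorem conj_of_commutes {g r : Fin 12} (h : Commutes g r) (s u : F) :
    (xr g s)⁻¹ * xr r u * xr g s = xr r u := by
  rcases h with rfl | h
  · rw [xr_inv, ← AddChar.map_add_eq_mul, ← AddChar.map_add_eq_mul]; congr 1; ring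
  · exact conj_comm h s u

variable {ρ}

theorem stab {g r : Fin 12} (h : Commutes g r) (t α : F) :
    ∀ v ∈ ew ρ r α, ρ (xr g t) v ∈ ew ρ r α :=
  fun _ hv => mem_ew_comm (conj_of_commutes h t) hv

variable (ρ)

/-- weights of `(X_{3a+b}, X_{3a+2b})` -/
noncomputable def W2 (γ δ : F) : Submodule ℂ V := ew ρ 11 δ ⊓ ew ρ 10 γ

/-- weights of `(X_{2a+b}, X_{3a+b}, X_{3a+2b})` -/
noncomputable def W3 (β γ δ : F) : Submodule ℂ V := W2 ρ γ δ ⊓ ew ρ 9 β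

variable {ρ}

theorem stab_W2 {g : Fin 12} (h1 : Commutes g 11) (h2 : Commutes g 10) (t γ δ : F) :
    ∀ v ∈ W2 ρ γ δ, ρ (xr g t) v ∈ W2 ρ γ δ :=
  fun v hv => ⟨stab h1 t δ v hv.1, stab h2 t γ v hv.2⟩

theorem ew_cast {r : Fin 12} {α β : F} (h : α = β) {v : V} (hv : v ∈ ew ρ r α) : v ∈ ew ρ r β := h ▸ hv

theorem W3_cast {β γ δ β' γ' δ' : F} (h1 : β = β') (h2 : γ = γ') (h3 : δ = δ') {v : V}
    (hv : v ∈ W3 ρ β γ δ) : v ∈ W3 ρ β' γ' δ' := h1 ▸ h2 ▸ h3 ▸ hv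

theorem torus_W3 (x y : Fˣ) (β γ δ : F) : ∀ v ∈ W3 ρ β γ δ, ρ (tt x y) v ∈
    W3 ρ (β * ((wt x y 9)⁻¹ : Fˣ)) (γ * ((wt x y 10)⁻¹ : Fˣ)) (δ * ((wt x y 11)⁻¹ : Fˣ)) :=
  fun _ hv => ⟨⟨mem_ew_transport (tt_conj' x y 11) hv.1.1, mem_ew_transport (tt_conj' x y 10) hv.1.2⟩,
    mem_ew_transport (tt_conj' x y 9) hv.2⟩

theorem W3_le (h3 : (3 : F) ≠ 0) {δ : F} (hδ : δ ≠ 0) (β γ β' γ' : F) :
    finrank ℂ (W3 ρ β γ δ) ≤ finrank ℂ (W3 ρ β' γ' δ) := by
  refine (finrank_le_of_map (ρ := ρ) (xr 6 ((γ - γ') / δ)) _ (W3 ρ β γ' δ) ?_).trans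
    (finrank_le_of_map (ρ := ρ) (xr 8 ((β - β') / (3 * δ))) _ _ ?_)
  · intro v hv
    refine ⟨⟨stab (by decide +kernel) _ _ v hv.1.1, ?_⟩, stab (by decide +kernel) _ _ v hv.2⟩
    have := mem_ew_shift (ρ := ρ) (conj_one (g := 6) (r := 10) (v := 11) (k := 1) (by decide +kernel)
      ((γ - γ') / δ)) hv.1.2 hv.1.1
    exact ew_cast (by push_cast; field_simp; ring) this
  · intro v hv
    refine ⟨stab_W2 (by decide +kernel) (by decide +kernel) _ _ _ v hv.1, ?_⟩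
    have := mem_ew_shift (ρ := ρ) (conj_one (g := 8) (r := 9) (v := 11) (k := 3) (by decide +kernel)
      ((β - β') / (3 * δ))) hv.2 hv.1.1
    exact ew_cast (by push_cast; field_simp; ring) this

theorem W3_eq (h3 : (3 : F) ≠ 0) {δ δ' : F} (hδ : δ ≠ 0) (hδ' : δ' ≠ 0) (β γ β' γ' : F) :
    finrank ℂ (W3 ρ β γ δ) = finrank ℂ (W3 ρ β' γ' δ') := by
  suffices H : ∀ δ δ' β γ β' γ' : F, δ ≠ 0 → δ' ≠ 0 →
      finrank ℂ (W3 ρ β γ δ) ≤ finrank ℂ (W3 ρ β' γ' δ') from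
    le_antisymm (H _ _ _ _ _ _ hδ hδ') (H _ _ _ _ _ _ hδ' hδ)
  intro δ δ' β γ β' γ' hδ hδ'
  let c : Fˣ := Units.mk0 (δ / δ') (div_ne_zero hδ hδ')
  refine ((W3_le h3 hδ β γ 0 0).trans (finrank_le_of_map (ρ := ρ) (tt c c⁻¹) _ (W3 ρ 0 0 δ') ?_)).trans
    (W3_le h3 hδ' 0 0 β' γ')
  intro v hv
  have := torus_W3 c c⁻¹ 0 0 δ v hv
  rw [zero_mul, zero_mul] at this
  refine W3_cast (ρ := ρ) rfl rfl ?_ this
  rw [show wt c c⁻¹ 11 = c from (by
    simp only [wt, show co 11 = (3, 2) from rfl]; group)]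
  simp only [c, Units.val_inv_eq_inv_val, Units.val_mk0]
  field_simp

theorem finrank_W2_of_ne (h3 : (3 : F) ≠ 0) {δ : F} (hδ : δ ≠ 0) (γ : F) :
    finrank ℂ (W2 ρ γ δ) = Fintype.card F * finrank ℂ (W3 ρ (0 : F) 0 1) := by
  rw [finrank_split 9 (W2 ρ γ δ) fun t => stab_W2 (by decide +kernel) (by decide +kernel) t γ δ]
  exact (Finset.sum_congr rfl fun β _ => W3_eq h3 hδ one_ne_zero β γ 0 0).trans (by simp)

theorem finrank_W2_zero (h3 : (3 : F) ≠ 0) {γ : F} (hγ : γ ≠ 0) :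
    finrank ℂ (W2 ρ γ 0) = Fintype.card F * finrank ℂ (W3 ρ (0 : F) 0 1) := by
  have hp := perm_nel (F := F) [ib]
  obtain ⟨d, hd, h11⟩ := hp 11
  obtain ⟨e, he, h10⟩ := hp 10
  rw [show sp [ib].reverse 11 = 10 by decide +kernel] at h11
  rw [show sp [ib].reverse 10 = 11 by decide +kernel] at h10
  refine le_antisymm ?_ ?_
  · rw [← finrank_W2_of_ne h3 (mul_ne_zero hγ hd) 0]
    refine finrank_le_of_map (ρ := ρ) (nel [ib]) _ _ fun v hv => ⟨mem_ew_transport h11 hv.2, ?_⟩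
    simpa using mem_ew_transport h10 hv.1
  · rw [← finrank_W2_of_ne h3 (div_ne_zero hγ he) 0]
    refine finrank_le_of_map (ρ := ρ) (nel [ib]) _ _ fun v hv => ⟨?_, ?_⟩
    · simpa using mem_ew_transport h11 hv.2
    · have := mem_ew_transport h10 hv.1
      rwa [div_mul_cancel₀ _ he] at this

theorem finrank_eq_count (h3 : (3 : F) ≠ 0) :
    finrank ℂ V = finrank ℂ (W2 ρ (0 : F) 0) +
      (Fintype.card F - 1) * (Fintype.card F * finrank ℂ (W3 ρ (0 : F) 0 1)) +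
      (Fintype.card F - 1) * (Fintype.card F * (Fintype.card F * finrank ℂ (W3 ρ (0 : F) 0 1))) := by
  classical
  have h : ∀ δ : F, finrank ℂ (ew ρ 11 δ) = ∑ γ : F, finrank ℂ (W2 ρ γ δ) := fun δ =>
    finrank_split 10 (ew ρ 11 δ) fun t => stab (by decide +kernel) t δ
  rw [finrank_top_split (ρ := ρ) 11, ← Finset.add_sum_erase _ _ (Finset.mem_univ (0 : F))]
  congr 1
  · rw [h, ← Finset.add_sum_erase _ _ (Finset.mem_univ (0 : F)),
      Finset.sum_congr rfl fun γ hγ => finrank_W2_zero h3 (Finset.ne_of_mem_erase hγ)]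
    simp
  · rw [Finset.sum_congr rfl fun δ hδ => (h δ).trans
      (Finset.sum_congr rfl fun γ _ => finrank_W2_of_ne h3 (Finset.ne_of_mem_erase hδ) γ)]
    simp

theorem exists_unit_pow_three_ne_one (hq : 4 < Fintype.card F) : ∃ u : Fˣ, u ^ 3 ≠ 1 := by
  classical
  obtain ⟨u, hu⟩ := IsCyclic.exists_ofOrder_eq_natCard (α := Fˣ)
  refine ⟨u, fun h => ?_⟩
  have h1 := Nat.le_of_dvd (by norm_num) (orderOf_dvd_of_pow_eq_one h)
  rw [hu, Nat.card_eq_fintype_card, Fintype.card_units] at h1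
  omega

/-- when `X_{3a+2b}` weights are multiplicity free, so are the weights with `X_{3a+2b}` trivial -/
theorem finrank_W3_one (h3 : (3 : F) ≠ 0) (hm : finrank ℂ (W3 ρ (0 : F) 0 1) = 1) {γ : F} (hγ : γ ≠ 0)
    (β : F) : finrank ℂ (W3 ρ β γ 0) = 1 := by
  have hle : ∀ β β' : F, finrank ℂ (W3 ρ β γ 0) ≤ finrank ℂ (W3 ρ β' γ 0) := by
    intro β β'
    refine finrank_le_of_map (ρ := ρ) (xr 7 ((β - β') / (3 * γ))) _ _ fun v hv =>
      ⟨stab_W2 (by decide +kernel) (by decide +kernel) _ _ _ v hv.1, ?_⟩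
    have := mem_ew_shift (ρ := ρ) (conj_one (g := 7) (r := 9) (v := 10) (k := 3) (by decide +kernel)
      ((β - β') / (3 * γ))) hv.2 hv.1.2
    exact ew_cast (by push_cast; field_simp; ring) this
  have h : finrank ℂ (W2 ρ γ 0) = ∑ b : F, finrank ℂ (W3 ρ b γ 0) :=
    finrank_split 9 (W2 ρ γ 0) fun t => stab_W2 (by decide +kernel) (by decide +kernel) t γ 0
  rw [Finset.sum_congr rfl fun b _ => le_antisymm (hle b β) (hle β b), Finset.sum_const, smul_eq_mul,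
    Finset.card_univ, finrank_W2_zero h3 hγ, hm] at h
  exact (Nat.eq_of_mul_eq_mul_left Fintype.card_pos h).symm

theorem W3_le_fixed_b (h3 : (3 : F) ≠ 0) (hq : 4 < Fintype.card F) (hm : finrank ℂ (W3 ρ (0 : F) 0 1) = 1)
    {γ : F} (hγ : γ ≠ 0) : W3 ρ 0 γ 0 ≤ ew ρ 6 (0 : F) := by
  obtain ⟨u, hu⟩ := exists_unit_pow_three_ne_one hq
  refine fixed_of_scaled (g := tt u (u ^ 3)⁻¹) (d := ((u ^ 3 : Fˣ) : F)) ?_ (finrank_W3_one h3 hm hγ 0).le ?_
    (fun h => hu (Units.ext (by simpa using h))) ?_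
  · intro t v hv
    refine ⟨⟨stab (by decide +kernel) t _ v hv.1.1, ?_⟩, stab (by decide +kernel) t _ v hv.2⟩
    have := mem_ew_shift (ρ := ρ) (conj_one (g := 6) (r := 10) (v := 11) (k := 1) (by decide +kernel) t)
      hv.1.2 hv.1.1
    simpa using this
  · intro v hv
    have := torus_W3 u (u ^ 3)⁻¹ 0 γ 0 v hv
    simp only [zero_mul] at this
    refine W3_cast (ρ := ρ) rfl ?_ rfl this
    rw [show wt u (u ^ 3)⁻¹ 10 = 1 from (by simp only [wt, show co 10 = (3, 1) from rfl]; group),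
      inv_one, Units.val_one, mul_one]
  · intro t
    rw [tt_conj', show wt u (u ^ 3)⁻¹ 6 = (u ^ 3)⁻¹ from (by simp only [wt, show co 6 = (0, 1) from rfl]; group),
      inv_inv]

variable (ρ)

/-- the weights of `X_b` among the vectors fixed by `X_{3a+b}` and `X_{3a+2b}` -/
noncomputable def Wb (c : F) : Submodule ℂ V := W2 ρ 0 0 ⊓ ew ρ 6 c

variable {ρ}

theorem one_le_Wb (h3 : (3 : F) ≠ 0) (hq : 4 < Fintype.card F) (hm : finrank ℂ (W3 ρ (0 : F) 0 1) = 1)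
    {c : F} (hc : c ≠ 0) : 1 ≤ finrank ℂ (Wb ρ c ⊓ ew ρ 8 (0 : F) : Submodule ℂ V) := by
  have hp := perm_nel (F := F) [ia]
  obtain ⟨d, hd, h6⟩ := hp 6
  rw [show sp [ia].reverse 6 = 10 by decide +kernel] at h6
  have hγ : c / d ≠ 0 := div_ne_zero hc hd
  rw [← finrank_W3_one h3 hm hγ 0]
  refine finrank_le_of_map (ρ := ρ) (nel [ia]) _ _ fun v hv => ⟨⟨⟨?_, ?_⟩, ?_⟩, ?_⟩
  · exact mem_ew_perm_zero hp 11 (by rw [show sp [ia].reverse 11 = 11 by decide +kernel]; exact hv.1.1)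
  · exact mem_ew_perm_zero hp 10
      (by rw [show sp [ia].reverse 10 = 6 by decide +kernel]; exact W3_le_fixed_b h3 hq hm hγ hv)
  · have := mem_ew_transport h6 hv.1.2
    rwa [div_mul_cancel₀ _ hd] at this
  · exact mem_ew_perm_zero hp 8 (by rw [show sp [ia].reverse 8 = 9 by decide +kernel]; exact hv.2)

theorem card_sub_one_le_W2 (h3 : (3 : F) ≠ 0) (hq : 4 < Fintype.card F)
    (hm : finrank ℂ (W3 ρ (0 : F) 0 1) = 1) :
    finrank ℂ (Wb ρ (0 : F)) + (Fintype.card F - 1) ≤ finrank ℂ (W2 ρ (0 : F) 0) := by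
  classical
  rw [finrank_split 6 (W2 ρ (0 : F) 0) fun t v hv => ⟨stab (by decide +kernel) t _ v hv.1, by
    simpa using mem_ew_shift (ρ := ρ) (conj_one (g := 6) (r := 10) (v := 11) (k := 1) (by decide +kernel) t)
      hv.2 hv.1⟩,
    ← Finset.add_sum_erase _ _ (Finset.mem_univ (0 : F))]
  refine add_le_add (le_of_eq rfl) ?_
  have := Finset.card_nsmul_le_sum (Finset.univ.erase (0 : F))
    (fun c => finrank ℂ (W2 ρ 0 0 ⊓ ew ρ 6 c : Submodule ℂ V)) 1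
    (fun c hc => (one_le_Wb h3 hq hm (Finset.ne_of_mem_erase hc)).trans (Submodule.finrank_mono inf_le_left))
  simpa using this

theorem one_le_mult {k : ℕ} {σ : Representation ℂ (GG F) (Fin k → ℂ)} (hσ : σ.IsIrreducible) (hk : 2 ≤ k)
    (hq : 2 < Fintype.card F) (h3 : (3 : F) ≠ 0) : 1 ≤ finrank ℂ (W3 σ (0 : F) 0 1) := by
  classical
  by_contra h
  have h0 : finrank ℂ (W3 σ (0 : F) 0 1) = 0 := by omega
  refine rho_xr_ne_one hσ hk hq 11 one_ne_zero (LinearMap.ext fun v => ?_)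
  have htop : ew σ 11 (0 : F) = ⊤ := by
    apply Submodule.eq_top_of_finrank_eq
    rw [finrank_eq_count (ρ := σ) h3, h0, finrank_split 10 (ew σ 11 (0 : F)) fun t => stab (by decide +kernel) t 0,
      ← Finset.add_sum_erase _ _ (Finset.mem_univ (0 : F)), Finset.sum_eq_zero fun γ hγ => ?_]
    · simp [W2]; congr 1
    · exact (finrank_W2_zero (ρ := σ) h3 (Finset.ne_of_mem_erase hγ)).trans (by rw [h0, mul_zero])
  exact mem_ew_zero.1 (htop ▸ Submodule.mem_top : v ∈ ew σ 11 (0 : F)) 1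

/-- the general bound in characteristic other than three -/
theorem pow_three_sub_one_le {k : ℕ} {σ : Representation ℂ (GG F) (Fin k → ℂ)} (hσ : σ.IsIrreducible) (hk : 2 ≤ k)
    (hq : 4 < Fintype.card F) (h3 : (3 : F) ≠ 0) :
    Fintype.card F ^ 3 - 1 ≤ k ∧
      (k ≤ Fintype.card F ^ 3 → finrank ℂ (W3 σ (0 : F) 0 1) = 1 ∧
        finrank ℂ (W2 σ (0 : F) 0) ≤ Fintype.card F) := by
  have hc := finrank_eq_count (ρ := σ) h3
  rw [Module.finrank_fin_fun] at hc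
  have hm := one_le_mult hσ hk (by omega) h3
  obtain ⟨n, hn⟩ : ∃ n, Fintype.card F = n + 1 := ⟨_, (Nat.succ_pred_eq_of_pos Fintype.card_pos).symm⟩
  simp only [hn, Nat.add_sub_cancel] at hc ⊢
  rcases Nat.lt_or_ge (finrank ℂ (W3 σ (0 : F) 0 1)) 2 with h | h
  · have h1 : finrank ℂ (W3 σ (0 : F) 0 1) = 1 := by omega
    have hf := card_sub_one_le_W2 (ρ := σ) h3 hq h1
    rw [h1] at hc
    rw [hn] at hf
    have e : (n + 1) ^ 3 = n * ((n + 1) * 1) + n * ((n + 1) * ((n + 1) * 1)) + (n + 1) := by ring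
    exact ⟨by omega, fun _ => ⟨h1, by omega⟩⟩
  · have e1 : n * ((n + 1) * 2) ≤ n * ((n + 1) * finrank ℂ (W3 σ (0 : F) 0 1)) := by gcongr
    have e2 : n * ((n + 1) * ((n + 1) * 2)) ≤
        n * ((n + 1) * ((n + 1) * finrank ℂ (W3 σ (0 : F) 0 1))) := by gcongr
    have e : n * ((n + 1) * 2) + n * ((n + 1) * ((n + 1) * 2)) = 2 * n * (n + 1) * (n + 2) := by ring
    have e' : (n + 1) ^ 3 < 2 * n * (n + 1) * (n + 2) := by
      have : 2 ≤ n := by omega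
      have h2 : (n + 1) ^ 2 < 2 * n * (n + 2) := by nlinarith
      nlinarith [h2]
    exact ⟨by omega, fun hle => absurd hle (by omega)⟩

end CfsgLib.G2Deg
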