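import Cfsg.Agent.Lib.G2Deg.Translate

/-!
No non-trivial irreducible representation of `G₂(q)`, `q ≡ 1 (mod 3)`, has degree at most `q³`.
-/

set_option autoImplicit false
set_option linter.unusedSectionVars false

namespace CfsgLib.G2Deg

open Cfsg.Lie CfsgLib.Chev CfsgLib.G2Invol CfsgLib.MinDeg Module

variable {F : Type*} [Field F] [Fintype F] {k : ℕ} {ρ : Representation ℂ (GG F) (Fin k → ℂ)}

theorem exists_cube_root (hmod : Fintype.card F % 3 = 1) :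
    ∃ ω : Fˣ, ω ^ 3 = 1 ∧ (ω : F) ≠ 1 := by
  classical
  obtain ⟨ω, hω⟩ := exists_prime_orderOf_dvd_card (G := Fˣ) 3 (by rw [Fintype.card_units]; omega)
  refine ⟨ω, by rw [← hω, pow_orderOf_eq_one], fun h => ?_⟩
  rw [Units.val_eq_one.1 h, orderOf_one] at hω
  omega

theorem finrank_Wb_le (h3 : (3 : F) ≠ 0) (hq : 4 < Fintype.card F)
    (hm : finrank ℂ (W3 ρ (0 : F) 0 1) = 1) (hf : finrank ℂ (W2 ρ (0 : F) 0) ≤ Fintype.card F) (c : F) :
    finrank ℂ (Wb ρ c) ≤ 1 := by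
  classical
  by_cases hc : c = 0
  · have := card_sub_one_le_W2 (ρ := ρ) h3 hq hm
    subst hc; omega
  by_contra h
  have hall : ∀ c' ∈ Finset.univ.erase (0 : F), 2 ≤ finrank ℂ (Wb ρ c') := by
    intro c' hc'
    have h' := Finset.ne_of_mem_erase hc'
    refine le_trans (show 2 ≤ finrank ℂ (Wb ρ c) by omega) (finrank_le_of_map (ρ := ρ)
      (tt 1 (Units.mk0 (c / c') (div_ne_zero hc h'))) (Wb ρ c) (Wb ρ c') fun v hv => ⟨⟨?_, ?_⟩, ?_⟩)
    · simpa using mem_ew_transport (tt_conj' _ _ 11) hv.1.1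
    · simpa using mem_ew_transport (tt_conj' _ _ 10) hv.1.2
    · refine ew_cast ?_ (mem_ew_transport (tt_conj' _ _ 6) hv.2)
      simp [wt, show co 6 = (0, 1) from rfl]
      field_simp
  have hsum : finrank ℂ (W2 ρ (0 : F) 0) = ∑ c : F, finrank ℂ (Wb ρ c) :=
    finrank_split 6 (W2 ρ (0 : F) 0) (fun t v hv => ⟨stab (by decide +kernel) t _ v hv.1, by
    simpa using mem_ew_shift (ρ := ρ) (conj_one (g := 6) (r := 10) (v := 11) (k := 1) (by decide +kernel) t)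
      hv.2 hv.1⟩)
  have h2 := Finset.card_nsmul_le_sum (Finset.univ.erase (0 : F)) (fun c => finrank ℂ (Wb ρ c)) 2 hall
  have h4 := Finset.sum_le_sum_of_subset (f := fun c => finrank ℂ (Wb ρ c))
    (Finset.subset_univ (Finset.univ.erase (0 : F)))
  simp only [Finset.card_erase_of_mem (Finset.mem_univ _), Finset.card_univ, smul_eq_mul] at h2
  omega

theorem eq_W3_of_fixed (h3 : (3 : F) ≠ 0) (hq : 4 < Fintype.card F) (hm : finrank ℂ (W3 ρ (0 : F) 0 1) = 1)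
    (hW : ∀ c : F, finrank ℂ (Wb ρ c) ≤ 1) {γ : F} (hγ : γ ≠ 0) :
    W2 ρ γ 0 ⊓ ew ρ 6 (0 : F) = W3 ρ 0 γ 0 := by
  have hp := perm_nel (F := F) [ia]
  obtain ⟨d, -, h6⟩ := hp 6
  rw [show sp [ia].reverse 6 = 10 by decide +kernel] at h6
  have hle : W3 ρ 0 γ 0 ≤ W2 ρ γ 0 ⊓ ew ρ 6 (0 : F) := fun v hv => ⟨hv.1, W3_le_fixed_b h3 hq hm hγ hv⟩
  refine (Submodule.eq_of_le_of_finrank_le hle ?_).symm
  rw [finrank_W3_one h3 hm hγ 0]
  refine (finrank_le_of_map (ρ := ρ) (nel [ia]) (W2 ρ γ 0 ⊓ ew ρ 6 (0 : F)) (Wb ρ (γ * d)) fun v hv =>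
    ⟨⟨?_, ?_⟩, mem_ew_transport h6 hv.1.2⟩).trans (hW _)
  · exact mem_ew_perm_zero hp 11 (by rw [show sp [ia].reverse 11 = 11 by decide +kernel]; exact hv.1.1)
  · exact mem_ew_perm_zero hp 10 (by rw [show sp [ia].reverse 10 = 6 by decide +kernel]; exact hv.2)

/-- a weight of `X_b` other than zero occurs with multiplicity at least three -/
theorem three_le_mult (h3 : (3 : F) ≠ 0) (hq : 4 < Fintype.card F) (hm : finrank ℂ (W3 ρ (0 : F) 0 1) = 1)
    {ω : Fˣ} (hω : ω ^ 3 = 1) (hω1 : (ω : F) ≠ 1) {γ α : F} (hγ : γ ≠ 0) (hα : α ≠ 0)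
    (hne : W2 ρ γ 0 ⊓ ew ρ 6 α ≠ ⊥) : 3 ≤ finrank ℂ (W2 ρ γ 0 ⊓ ew ρ 6 α : Submodule ℂ (Fin k → ℂ)) := by
  classical
  set X := W2 ρ γ 0 ⊓ ew ρ 6 α with hX
  have hstab : ∀ t, ∀ v ∈ X, ρ (xr 9 t) v ∈ X := fun t v hv =>
    ⟨stab_W2 (by decide +kernel) (by decide +kernel) t γ 0 v hv.1, stab (by decide +kernel) t α v hv.2⟩
  have hsum := finrank_split 9 X hstab
  have hpos : 0 < finrank ℂ X := one_le_finrank_of_ne_bot hne
  rw [hsum] at hpos ⊢
  obtain ⟨β, -, hβ⟩ := Finset.exists_ne_zero_of_sum_ne_zero hpos.ne'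
  have hβbot : X ⊓ ew ρ 9 β ≠ ⊥ := fun e => hβ (by rw [e]; exact finrank_bot ℂ _)
  have hβ0 : β ≠ 0 := by
    rintro rfl
    obtain ⟨v, hv, hv0⟩ := Submodule.exists_mem_ne_zero_of_ne_bot hβbot
    exact hα (ew_unique hv0 hv.1.2 (W3_le_fixed_b h3 hq hm hγ ⟨hv.1.1, hv.2⟩))
  have hω3 : (ω : F) ^ 3 = 1 := by simpa using congrArg Units.val hω
  have e10 : ((wt ω 1 10)⁻¹ : Fˣ) = 1 := by
    rw [wt, show co 10 = (3, 1) from rfl, one_zpow, mul_one, show (3 : ℤ) = ((3 : ℕ) : ℤ) from rfl, zpow_natCast,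
      hω, inv_one]
  have e9 : (((wt ω 1 9)⁻¹ : Fˣ) : F) = ω := by
    rw [wt, show co 9 = (2, 1) from rfl, one_zpow, mul_one, show (2 : ℤ) = ((2 : ℕ) : ℤ) from rfl, zpow_natCast]
    rw [show (ω ^ 2)⁻¹ = ω from inv_eq_of_mul_eq_one_right (by rw [← pow_succ, hω])]
  have e6 : ((wt ω 1 6)⁻¹ : Fˣ) = 1 := by rw [wt, show co 6 = (0, 1) from rfl]; simp
  have hstep : ∀ β : F, finrank ℂ (X ⊓ ew ρ 9 β : Submodule ℂ (Fin k → ℂ)) ≤
      finrank ℂ (X ⊓ ew ρ 9 (β * ω) : Submodule ℂ (Fin k → ℂ)) := by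
    intro β
    refine finrank_le_of_map (ρ := ρ) (tt ω 1) _ _ fun v hv => ⟨⟨⟨?_, ?_⟩, ?_⟩, ?_⟩
    · simpa using mem_ew_transport (tt_conj' ω 1 11) hv.1.1.1
    · have := mem_ew_transport (tt_conj' ω 1 10) hv.1.1.2
      rwa [e10, Units.val_one, mul_one] at this
    · have := mem_ew_transport (tt_conj' ω 1 6) hv.1.2
      rwa [e6, Units.val_one, mul_one] at this
    · have := mem_ew_transport (tt_conj' ω 1 9) hv.2
      rwa [e9] at this
  have hω2 : (ω : F) ^ 2 ≠ 1 := fun h => hω1 (by rw [pow_succ, h, one_mul] at hω3; exact hω3)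
  have hd1 : β ≠ β * ω := fun h => hω1 ((mul_eq_left₀ hβ0).1 h.symm)
  have hd2 : β ≠ β * ω * ω := fun h => hω2 ((mul_eq_left₀ hβ0).1 (by rw [pow_two, ← mul_assoc]; exact h.symm))
  have hd3 : β * ω ≠ β * ω * ω := fun h => hω1 ((mul_eq_left₀ (mul_ne_zero hβ0 ω.ne_zero)).1 h.symm)
  calc 3 ≤ ∑ b ∈ ({β, β * ω, β * ω * ω} : Finset F), finrank ℂ (X ⊓ ew ρ 9 b : Submodule ℂ (Fin k → ℂ)) := by
        rw [Finset.sum_insert (by simp [hd1, hd2]), Finset.sum_insert (by simp [hd3]), Finset.sum_singleton]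
        have h1 : 1 ≤ finrank ℂ (X ⊓ ew ρ 9 β : Submodule ℂ (Fin k → ℂ)) := one_le_finrank_of_ne_bot hβbot
        have h2 := hstep β
        have h4 := hstep (β * ω)
        omega
    _ ≤ _ := Finset.sum_le_sum_of_subset (Finset.subset_univ _)

/-- the degree exceeds `q³` -/
theorem pow_three_lt (hρ : ρ.IsIrreducible) (hk : 2 ≤ k) (hq : 4 < Fintype.card F)
    (hmod : Fintype.card F % 3 = 1) (h3 : (3 : F) ≠ 0) : Fintype.card F ^ 3 < k := by
  classical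
  by_contra hle
  obtain ⟨hm, hf0⟩ := (pow_three_sub_one_le hρ hk hq h3).2 (not_lt.1 hle)
  have hW := finrank_Wb_le h3 hq hm hf0
  have := Fintype.ofFinite (GG F)
  have hA := one_le_Wb (ρ := ρ) h3 hq hm (one_ne_zero (α := F))
  have hAeq : Wb ρ (1 : F) ⊓ ew ρ 8 (0 : F) = Wb ρ 1 :=
    Submodule.eq_of_le_of_finrank_le inf_le_left ((hW 1).trans hA)
  obtain ⟨w, hw, hw0⟩ := Submodule.exists_mem_ne_zero_of_ne_bot
    (p := Wb ρ (1 : F) ⊓ ew ρ 8 (0 : F)) (fun e => by rw [e, finrank_bot] at hA; omega)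
  obtain ⟨θ, K, hθ1, hθ0, hθm, hθ⟩ := exists_theta hW hw.1.1
  have hH : hf ρ w w ≠ 0 := fun h => hw0 (hf_self_eq_zero.1 h)
  set G1 := ∑ s : F, pc F (-s) * θ (-s⁻¹) with hG1
  let y : F → (Fin k → ℂ) := fun α => pr ρ 0 α (pr ρ 1 0 w)
  have hy : ∀ α : F, α ≠ 0 → (y α ≠ 0 ↔ hf ρ w w + (Fintype.card F : ℂ) * K * G1 * θ α ≠ 0) := by
    intro α hα
    have hre : ∑ s : F, pc F (-(α * s)) * θ (-s⁻¹) = θ α * G1 := by
      rw [hG1, Finset.mul_sum]
      refine Fintype.sum_equiv (Equiv.mulLeft₀ α hα) _ _ fun s => ?_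
      show pc F (-(α * s)) * θ (-s⁻¹) = θ α * (pc F (-(α * s)) * θ (-(α * s)⁻¹))
      rw [mul_left_comm (θ α), ← hθm]
      congr 2
      rw [mul_inv, mul_neg, ← mul_assoc, mul_inv_cancel₀ hα, one_mul]
    rw [Ne, ← hf_self_eq_zero (ρ := ρ), hf_pr_self]
    have e := hf_pr one_ne_zero hw.1 hθ0 hθ α
    rw [hre, ← mul_assoc, mul_right_comm _ (θ α) G1] at e
    rw [← e, ← Ne, mul_ne_zero_iff]
    have hq' : (Fintype.card F : ℂ) ≠ 0 := card_cast_ne_zero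
    simp [hq']
  have hp := perm_nel (F := F) [ib, ia, ib, ia]
  obtain ⟨d, hd, h10⟩ := hp 10
  obtain ⟨e, he, h6⟩ := hp 6
  rw [show sp [ib, ia, ib, ia].reverse 10 = 6 by decide +kernel] at h10
  rw [show sp [ib, ia, ib, ia].reverse 6 = 0 by decide +kernel] at h6
  have hz1 : pr ρ 1 0 w ∈ ew ρ 6 (1 : F) := pr_mem' (fun t => stab (by decide +kernel) t 1) 0 hw.1.2
  rcases card_nonzero_ge θ hθ1 hθm hH ((Fintype.card F : ℂ) * K * G1) (fun α => y α ≠ 0) hy with hall | hcard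
  · -- no translate has a non-trivial weight of `X_b`
    have hz0 : pr ρ 1 0 w ∈ ew ρ 0 (0 : F) := mem_ew_of_pr_eq_zero fun α hα => not_not.1 (hall α hα)
    have hzne : pr ρ 1 0 w ≠ 0 := by
      intro h
      have h' := congrArg (hf ρ w) h
      rw [pr_apply, hf_smul_right, hf_sum_right, hf_zero_right] at h'
      simp only [zero_mul, neg_zero, AddChar.map_zero_eq_one, one_smul] at h'
      have ht := fun u : F => hf_translate one_ne_zero hw.1 hθ 0 u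
      simp only [AddChar.map_zero_eq_one, rho_one, if_true] at ht
      simp only [ht, Finset.sum_ite_eq', Finset.mem_univ, if_true, mul_eq_zero, inv_eq_zero] at h'
      exact h'.elim (fun h'' => card_cast_ne_zero h'') hH
    have hz8 : pr ρ 1 0 w ∈ ew ρ 8 (0 : F) := pr_mem' (fun t => stab (by decide +kernel) t 0) 0 hw.2
    set Z := ρ (nel [ib, ia, ib, ia]) (pr ρ 1 0 w) with hZ
    have hZ10 : Z ∈ ew ρ 10 d := ew_cast (one_mul d) (mem_ew_transport h10 hz1)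
    have hZ11 : Z ∈ ew ρ 11 (0 : F) := mem_ew_perm_zero hp 11
      (by rw [show sp [ib, ia, ib, ia].reverse 11 = 1 by decide +kernel]; exact pr_mem _ _ _)
    have hZ7 : Z ∈ ew ρ 7 (0 : F) := mem_ew_perm_zero hp 7
      (by rw [show sp [ib, ia, ib, ia].reverse 7 = 8 by decide +kernel]; exact hz8)
    have hZ6 : Z ∈ ew ρ 6 (0 : F) := by simpa using mem_ew_transport h6 hz0
    have hZ9 : Z ∈ W3 ρ 0 d 0 := eq_W3_of_fixed h3 hq hm hW hd ▸ ⟨⟨hZ11, hZ10⟩, hZ6⟩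
    have hsh := mem_ew_shift (ρ := ρ) (conj_one (g := 7) (r := 9) (v := 10) (k := 3) (by decide +kernel) (1 : F))
      hZ9.2 hZ10
    rw [mem_ew_zero.1 hZ7] at hsh
    have hZne : Z ≠ 0 := fun h => hzne (rep_injective ρ (nel [ib, ia, ib, ia])
      (h.trans (map_zero (ρ (nel [ib, ia, ib, ia]))).symm))
    have := ew_unique hZne hZ9.2 hsh
    simp at this
    rcases this with h | h
    · exact hd h
    · exact h3 h
  · -- many weights of `X_b`, each of multiplicity at least three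
    set S := (Finset.univ.erase (0 : F)).filter fun α => y α ≠ 0 with hS
    obtain ⟨ω, hω, hω1⟩ := exists_cube_root (F := F) hmod
    have hmult : ∀ α ∈ S.image (fun α => α * e),
        3 ≤ finrank ℂ (W2 ρ d 0 ⊓ ew ρ 6 α : Submodule ℂ (Fin k → ℂ)) := by
      intro α' hα'
      obtain ⟨α, hα, rfl⟩ := Finset.mem_image.1 hα'
      obtain ⟨hα1, hα2⟩ := Finset.mem_filter.1 hα
      refine three_le_mult h3 hq hm hω hω1 hd (mul_ne_zero (Finset.ne_of_mem_erase hα1) he) ?_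
      refine fun hb => hα2 (rep_injective ρ (nel [ib, ia, ib, ia]) ?_)
      rw [map_zero, ← Submodule.mem_bot ℂ, ← hb]
      have hmem : y α ∈ ew ρ 1 (0 : F) ⊓ ew ρ 6 (1 : F) := by
        refine pr_mem' (W := ew ρ 1 (0 : F) ⊓ ew ρ 6 (1 : F)) (fun t v hv => ⟨stab (by decide +kernel) t _ v hv.1, ?_⟩) α ⟨pr_mem _ _ _, hz1⟩
        simpa using mem_ew_shift (ρ := ρ) (conj_one (g := 0) (r := 6) (v := 1) (k := 1) (by decide +kernel) t)
          hv.2 hv.1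
      exact ⟨⟨mem_ew_perm_zero hp 11
        (by rw [show sp [ib, ia, ib, ia].reverse 11 = 1 by decide +kernel]; exact hmem.1),
        ew_cast (one_mul d) (mem_ew_transport h10 hmem.2)⟩, mem_ew_transport h6 (pr_mem 0 α _)⟩
    have hsplit := finrank_split 6 (W2 ρ d 0) (fun t v hv => ⟨stab (by decide +kernel) t _ v hv.1, by
      simpa using mem_ew_shift (ρ := ρ) (conj_one (g := 6) (r := 10) (v := 11) (k := 1) (by decide +kernel) t)
        hv.2 hv.1⟩)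
    rw [finrank_W2_zero h3 hd, hm, mul_one, ← Finset.add_sum_erase _ _ (Finset.mem_univ (0 : F))] at hsplit
    have h0 : 1 ≤ finrank ℂ (W2 ρ d 0 ⊓ ew ρ 6 (0 : F) : Submodule ℂ (Fin k → ℂ)) := by
      rw [eq_W3_of_fixed h3 hq hm hW hd, finrank_W3_one h3 hm hd 0]
    have h1 := Finset.card_nsmul_le_sum _ (fun α => finrank ℂ (W2 ρ d 0 ⊓ ew ρ 6 α : Submodule ℂ (Fin k → ℂ)))
      3 hmult
    have hsub : S.image (fun α => α * e) ⊆ Finset.univ.erase (0 : F) := by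
      intro a ha
      obtain ⟨α, hα, rfl⟩ := Finset.mem_image.1 ha
      exact Finset.mem_erase.2
        ⟨mul_ne_zero (Finset.ne_of_mem_erase (Finset.mem_filter.1 hα).1) he, Finset.mem_univ _⟩
    have h2 := Finset.sum_le_sum_of_subset
      (f := fun α => finrank ℂ (W2 ρ d 0 ⊓ ew ρ 6 α : Submodule ℂ (Fin k → ℂ))) hsub
    rw [Finset.card_image_of_injective _ (mul_left_injective₀ he), smul_eq_mul] at h1
    omega

end CfsgLib.G2Deg
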