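import Cfsg.Agent.Lib.G2Invol.Cent

/-!
Root elements, torus and Weyl elements of `G₂(F)` as elements of the group, with the conjugation
rules used for the degree bounds.
-/

set_option autoImplicit false
set_option linter.unusedSectionVars false

namespace CfsgLib.G2Deg

open Cfsg.Lie CfsgLib.Chev CfsgLib.G2Invol

variable {F : Type*} [Field F]

/-- the group `G₂(F)` -/
abbrev GG (F : Type*) [Field F] := ↥(chevG2.group F)

theorem lt12 (r : Fin 12) : r.val < chevG2.nroots := r.isLt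

/-- the root subgroups as additive characters -/
noncomputable def xr (r : Fin 12) : AddChar F (GG F) where
  toFun t := ⟨elX chevG2 F r t, elX_mem_group hcG (lt12 r) t⟩
  map_zero_eq_one' := Subtype.ext (elX_zero hcG F (lt12 r))
  map_add_eq_mul' s t := Subtype.ext (elX_add hcG F (lt12 r) s t).symm

theorem coe_xr (r : Fin 12) (t : F) : (xr r t : GL chevG2.Idx F) = elX chevG2 F r t := rfl

theorem xr_inv (r : Fin 12) (t : F) : (xr r t)⁻¹ = xr r (-t) := (AddChar.map_neg_eq_inv _ _).symm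

/-- `g` carries `X_{f r}` to `X_r` by conjugation -/
def Perm (g : GG F) (f : Fin 12 → Fin 12) : Prop :=
  ∀ r, ∃ c : F, c ≠ 0 ∧ ∀ t, g⁻¹ * xr r t * g = xr (f r) (c * t)

theorem Perm.mul {g h : GG F} {f f' : Fin 12 → Fin 12} (hg : Perm g f) (hh : Perm h f') :
    Perm (g * h) (fun r => f' (f r)) := by
  intro r
  obtain ⟨c, hc, e⟩ := hg r
  obtain ⟨d, hd, e'⟩ := hh (f r)
  refine ⟨d * c, mul_ne_zero hd hc, fun t => ?_⟩
  rw [show (g * h)⁻¹ * xr r t * (g * h) = h⁻¹ * (g⁻¹ * xr r t * g) * h by group, e, e', mul_assoc]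

/-- the torus element with values `x`, `y` at the fundamental roots -/
noncomputable def tt (x y : Fˣ) : GG F := ⟨tor x y, diagonal_le_group hcG (tor_mem _)⟩

theorem coe_tt (x y : Fˣ) : (tt x y : GL chevG2.Idx F) = tor x y := rfl

theorem tt_mul (x y x' y' : Fˣ) : tt x y * tt x' y' = tt (x * x') (y * y') :=
  Subtype.ext (tor_mul x y x' y')

/-- the coefficients of the roots on the fundamental roots -/
def co (r : Fin 12) : ℤ × ℤ :=
  ([(-3, -2), (-3, -1), (-2, -1), (-1, -1), (-1, 0), (0, -1), (0, 1), (1, 0), (1, 1), (2, 1), (3, 1), (3, 2)] :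
    List (ℤ × ℤ)).getD r.val 0

theorem rv_co : ∀ r : Fin 12, rv chevG2 G2.tabs r.val ia = (co r).1 ∧ rv chevG2 G2.tabs r.val ib = (co r).2 := by
  decide +kernel

/-- the factor by which the torus scales a root subgroup -/
def wt (x y : Fˣ) (r : Fin 12) : Fˣ := x ^ (co r).1 * y ^ (co r).2

theorem tt_conj (x y : Fˣ) (r : Fin 12) (t : F) :
    tt x y * xr r t * (tt x y)⁻¹ = xr r ((wt x y r : F) * t) := by
  apply Subtype.ext
  simp only [Subgroup.coe_mul, Subgroup.coe_inv, coe_tt, coe_xr, tor]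
  rw [torus_conj_elX hcG _ (lt12 r), chi_rank, chr_ia, chr_ib, (rv_co r).1, (rv_co r).2, wt]

theorem tt_conj' (x y : Fˣ) (r : Fin 12) (t : F) :
    (tt x y)⁻¹ * xr r t * tt x y = xr r (((wt x y r)⁻¹ : Fˣ) * t) := by
  have h := tt_conj x y r (((wt x y r)⁻¹ : Fˣ) * t)
  rw [← mul_assoc, ← Units.val_mul, mul_inv_cancel, Units.val_one, one_mul] at h
  rw [← h]; group

theorem perm_tt (x y : Fˣ) : Perm (tt x y) id :=
  fun r => ⟨_, Units.ne_zero _, fun t => tt_conj' x y r t⟩

/-- the product of the `n_p(1)` along a word -/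
noncomputable def nel (L : List (Fin chevG2.rank)) : GG F :=
  ⟨nProd chevG2 F L, monomial_le_group hcG (nProd_mem_monomial hcG L)⟩

theorem coe_nel (L : List (Fin chevG2.rank)) : ((nel L : GG F) : GL chevG2.Idx F) = nProd chevG2 F L := rfl

/-- the permutation of the roots along a word -/
noncomputable def sp (L : List (Fin chevG2.rank)) (r : Fin 12) : Fin 12 :=
  ⟨sigs chevG2 G2.tabs L r.val, sigs_lt hcG L (lt12 r)⟩

theorem perm_nel_inv (L : List (Fin chevG2.rank)) : Perm ((nel L)⁻¹ : GG F) (sp L) := by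
  intro r
  obtain ⟨c, -, h⟩ := nProd_conj_elX hcG (F := F) L (lt12 r)
  refine ⟨c, c.ne_zero, fun t => Subtype.ext ?_⟩
  simp only [Subgroup.coe_mul, Subgroup.coe_inv, inv_inv, coe_nel, coe_xr]
  exact h t

theorem perm_nel (L : List (Fin chevG2.rank)) : Perm (nel L : GG F) (sp L.reverse) := by
  intro r
  obtain ⟨c, -, h⟩ := nProd_conj_elX hcG (F := F) L (lt12 (sp L.reverse r))
  refine ⟨(c : F)⁻¹, inv_ne_zero c.ne_zero, fun t => Subtype.ext ?_⟩
  have h' := h ((c : F)⁻¹ * t)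
  have e : sigs chevG2 G2.tabs L (sigs chevG2 G2.tabs L.reverse r.val) = r.val := by
    have := sigs_reverse hcG L.reverse (lt12 r)
    rwa [List.reverse_reverse] at this
  simp only [sp] at h'
  rw [e, ← mul_assoc, mul_inv_cancel₀ c.ne_zero, one_mul] at h'
  simp only [Subgroup.coe_mul, Subgroup.coe_inv, coe_nel, coe_xr, sp]
  rw [← h']; group

/-- `n_r(t)` in the group -/
noncomputable def nr (r : Fin 12) (t : F) : GG F := ⟨elN chevG2 F r t, elN_mem_group hcG (lt12 r) t⟩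

theorem coe_nr (r : Fin 12) (t : F) : (nr r t : GL chevG2.Idx F) = elN chevG2 F r t := rfl

theorem nr_simple_eq (i : Fin chevG2.rank) (v : Fin 12) (hv : v.val = chevG2.simple i) (t : Fˣ) :
    ∃ x y : Fˣ, nr v (t : F) = tt x y * nel [i] := by
  refine ⟨corChar chevG2 G2.tabs v.val t ia, corChar chevG2 G2.tabs v.val t ib, Subtype.ext ?_⟩
  simp only [Subgroup.coe_mul, coe_nr, coe_tt, coe_nel, tor, ← chr_ext, nProd_cons, nProd_nil, mul_one]
  rw [elN_eq_mul hcG (lt12 v), ← hv]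

theorem perm_nr (L : List (Fin chevG2.rank)) (i : Fin chevG2.rank) (v p : Fin 12)
    (hp : p.val = chevG2.simple i) (hv : sp L p = v) (t : F) (ht : t ≠ 0) :
    Perm (nr v t) (fun r => sp L (sp [i] (sp L.reverse r))) := by
  obtain ⟨c, hc1, h⟩ := nProd_conj_elX_pair hcG (F := F) L (lt12 p)
  have hc := c.ne_zero
  obtain ⟨x, y, e⟩ := nr_simple_eq i p hp (Units.mk0 ((c : F)⁻¹ * t) (mul_ne_zero (inv_ne_zero hc) ht))
  rw [Units.val_mk0] at e
  have key : nr v t = nel L * (tt x y * nel [i]) * (nel L)⁻¹ := by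
    rw [← e]
    apply Subtype.ext
    simp only [Subgroup.coe_mul, Subgroup.coe_inv, coe_nr, coe_nel, elN]
    rw [← hv, sp]
    have conj : ∀ n a b : GL chevG2.Idx F, n * (a * b * a) * n⁻¹ = (n * a * n⁻¹) * (n * b * n⁻¹) * (n * a * n⁻¹) :=
      fun n a b => by group
    rw [conj, (h _).1, (h _).2]
    simp only [← mul_assoc, mul_inv_cancel₀ hc, one_mul, mul_inv_rev, inv_inv]
    congr 2
    rcases hc1 with hc2 | hc2 <;> simp [hc2]
  rw [key]
  have := ((perm_nel L).mul ((perm_tt x y).mul (perm_nel [i]))).mul (perm_nel_inv (F := F) L)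
  intro r
  obtain ⟨d, hd, hh⟩ := this r
  exact ⟨d, hd, fun u => by simpa using hh u⟩

theorem elX_word {g r : Fin 12} (h1 : r ≠ g) (h2 : r.val ≠ chevG2.neg g.val) (s u : F)
    {L : List (ℕ × ℤ × ℕ × ℕ)} (hL : chevG2.commTerms g.val r.val = L) :
    (((xr g s)⁻¹ * xr r u * xr g s : GG F) : GL chevG2.Idx F) = elX chevG2 F r u *
      (L.map fun c => elX chevG2 F c.1 ((c.2.1 : F) * (-s) ^ c.2.2.1 * u ^ c.2.2.2)).prod := by
  have h := elX_conj_elX hcG hcommG (F := F) (lt12 g) (lt12 r) (fun e => h1 (Fin.ext e)) h2 (-s) u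
  rw [elX_inv hcG F (lt12 g), neg_neg] at h
  simp only [Subgroup.coe_mul, Subgroup.coe_inv, coe_xr, elX_inv hcG F (lt12 g)]
  rw [h, wordGL, ChevalleyDatum.commWord, hL, List.map_map]
  rfl

theorem conj_comm {g r : Fin 12} (h : r ≠ g ∧ r.val ≠ chevG2.neg g.val ∧ chevG2.commTerms g.val r.val = [])
    (s u : F) : (xr g s)⁻¹ * xr r u * xr g s = xr r u := by
  apply Subtype.ext
  rw [elX_word h.1 h.2.1 s u h.2.2]
  simp [coe_xr]

theorem conj_one {g r v : Fin 12} {k : ℤ}
    (h : r ≠ g ∧ r.val ≠ chevG2.neg g.val ∧ chevG2.commTerms g.val r.val = [(v.val, k, 1, 1)])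
    (s u : F) : (xr g s)⁻¹ * xr r u * xr g s = xr r u * xr v (((k : F) * -s) * u) := by
  apply Subtype.ext
  rw [elX_word h.1 h.2.1 s u h.2.2]
  simp [coe_xr]

/-- the decomposition of a negative root element through `n_r` -/
theorem neg_eq_nr {r v : Fin 12} (h : v.val = chevG2.neg r.val) {b : F} (hb : b ≠ 0) :
    xr v b = xr r b⁻¹ * nr r (-b⁻¹) * xr r b⁻¹ := by
  apply Subtype.ext
  simp only [Subgroup.coe_mul, coe_xr, coe_nr, h]
  exact neg_elX_eq hcG (lt12 r) hb

theorem nr_eq_tt_mul (t : Fˣ) : nr 11 (t : F) = tt 1 t * nr 11 (1 : F) := by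
  apply Subtype.ext
  simp only [Subgroup.coe_mul, coe_nr, coe_tt, tor, ← cor11]
  exact elN_eq_mul hcG (lt12 11) t

end CfsgLib.G2Deg
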