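import Cfsg.Agent.Lib.G2Deg.NonThree

/-!
Weight multiplicities of `(X_{a+b}, X_{2a+b}, X_{3a+b}, X_{3a+2b})` in characteristic three, where these
four root subgroups commute.
-/

set_option autoImplicit false
set_option linter.unusedSectionVars false

namespace CfsgLib.G2Deg

open Cfsg.Lie CfsgLib.Chev CfsgLib.G2Invol CfsgLib.MinDeg Module

variable {F : Type*} [Field F] [Fintype F]

/-- root subgroups commuting in characteristic three -/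
def Commutes3 (g r : Fin 12) : Prop :=
  r = g ∨ (r ≠ g ∧ r.val ≠ chevG2.neg g.val ∧
    ∀ c ∈ chevG2.commTerms g.val r.val, c.1 < chevG2.nroots ∧ c.2.1 % 3 = 0)

instance (g r : Fin 12) : Decidable (Commutes3 g r) := by unfold Commutes3; infer_instance

theorem conj_of_commutes3 (h30 : (3 : F) = 0) {g r : Fin 12} (h : Commutes3 g r) (s u : F) :
    (xr g s)⁻¹ * xr r u * xr g s = xr r u := by
  rcases h with rfl | ⟨h1, h2, h3⟩
  · exact conj_of_commutes (Or.inl rfl) s u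
  apply Subtype.ext
  rw [elX_word h1 h2 s u rfl, coe_xr, mul_eq_left]
  refine List.prod_eq_one fun x hx => ?_
  obtain ⟨c, hc, rfl⟩ := List.mem_map.1 hx
  obtain ⟨hc1, hc2⟩ := h3 c hc
  obtain ⟨m, hm⟩ := Int.dvd_of_emod_eq_zero hc2
  rw [hm, Int.cast_mul, show ((3 : ℤ) : F) = (3 : F) by norm_num, h30, zero_mul, zero_mul, zero_mul,
    elX_zero hcG F hc1]

theorem conj_seven_eight (h30 : (3 : F) = 0) (s u : F) :
    (xr 7 s)⁻¹ * xr 8 u * xr 7 s = xr 8 u * xr 9 (-s * u) := by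
  apply Subtype.ext
  rw [elX_word (by decide) (by decide +kernel) s u
    (L := [(9, -2, 1, 1), (10, -3, 2, 1), (11, 3, 1, 2)]) (by decide +kernel)]
  have h2 : (2 : F) = -1 := by linear_combination h30
  simp [coe_xr, h30, h2, elX_zero hcG F (show 10 < chevG2.nroots by decide),
    elX_zero hcG F (show 11 < chevG2.nroots by decide)]

theorem conj_seven_six (s u : F) : ∃ b c : F, (xr 7 s)⁻¹ * xr 6 u * xr 7 s =
    xr 6 u * xr 8 (s * u) * xr 9 b * xr 10 (-(s ^ 3 * u)) * xr 11 c := by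
  refine ⟨s ^ 2 * u, -(s ^ 3) * u ^ 2, Subtype.ext ?_⟩
  rw [elX_word (by decide) (by decide +kernel) s u
    (L := [(8, -1, 1, 1), (9, 1, 2, 1), (10, 1, 3, 1), (11, 1, 3, 2)]) (by decide +kernel)]
  simp [coe_xr, mul_assoc, show (-s) ^ 3 = -(s ^ 3) by ring]

theorem conj_six_seven (s u : F) : ∃ a b c : F, (xr 6 s)⁻¹ * xr 7 u * xr 6 s =
    xr 7 u * xr 8 (-s * u) * xr 9 a * xr 10 b * xr 11 c := by
  refine ⟨-s * u ^ 2, -(-s * u ^ 3), -2 * (-s) ^ 2 * u ^ 3, Subtype.ext ?_⟩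
  rw [elX_word (by decide) (by decide +kernel) s u
    (L := [(8, 1, 1, 1), (9, 1, 1, 2), (10, -1, 1, 3), (11, -2, 2, 3)]) (by decide +kernel)]
  simp [coe_xr, mul_assoc]

variable {V : Type*} [AddCommGroup V] [Module ℂ V] [FiniteDimensional ℂ V]
variable (ρ : Representation ℂ (GG F) V)

/-- weights of `(X_{2a+b}, X_{3a+b}, X_{3a+2b})` -/
noncomputable def T1 (β γ δ : F) : Submodule ℂ V := ew ρ 11 δ ⊓ ew ρ 9 β ⊓ ew ρ 10 γ

/-- weights of `(X_{a+b}, X_{2a+b}, X_{3a+2b})` -/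
noncomputable def T2 (α β δ : F) : Submodule ℂ V := ew ρ 11 δ ⊓ ew ρ 9 β ⊓ ew ρ 8 α

/-- weights of the four root subgroups -/
noncomputable def T4 (α β γ δ : F) : Submodule ℂ V := T1 ρ β γ δ ⊓ ew ρ 8 α

variable {ρ}

theorem T4_eq (α β γ δ : F) : T4 ρ α β γ δ = T2 ρ α β δ ⊓ ew ρ 10 γ := by
  simp only [T4, T1, T2]; rw [inf_right_comm]

theorem stab3 (h30 : (3 : F) = 0) {g r : Fin 12} (h : Commutes3 g r) (t α : F) :
    ∀ v ∈ ew ρ r α, ρ (xr g t) v ∈ ew ρ r α :=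
  fun _ hv => mem_ew_comm (conj_of_commutes3 h30 h t) hv

theorem T4_cast {α β γ δ α' β' γ' δ' : F} (h1 : α = α') (h2 : β = β') (h3 : γ = γ') (h4 : δ = δ') {v : V}
    (hv : v ∈ T4 ρ α β γ δ) : v ∈ T4 ρ α' β' γ' δ' := h1 ▸ h2 ▸ h3 ▸ h4 ▸ hv

theorem torus_T4 (x y : Fˣ) (α β γ δ : F) : ∀ v ∈ T4 ρ α β γ δ, ρ (tt x y) v ∈
    T4 ρ (α * ((wt x y 8)⁻¹ : Fˣ)) (β * ((wt x y 9)⁻¹ : Fˣ)) (γ * ((wt x y 10)⁻¹ : Fˣ))
      (δ * ((wt x y 11)⁻¹ : Fˣ)) :=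
  fun _ hv => ⟨⟨⟨mem_ew_transport (tt_conj' x y 11) hv.1.1.1, mem_ew_transport (tt_conj' x y 9) hv.1.1.2⟩,
    mem_ew_transport (tt_conj' x y 10) hv.1.2⟩, mem_ew_transport (tt_conj' x y 8) hv.2⟩

theorem finrank_T4_torus (x y : Fˣ) (α β γ δ α' β' γ' δ' : F) (h8 : α' * (wt x y 8 : F) = α)
    (h9 : β' * (wt x y 9 : F) = β) (h10 : γ' * (wt x y 10 : F) = γ) (h11 : δ' * (wt x y 11 : F) = δ) :
    finrank ℂ (T4 ρ α β γ δ) ≤ finrank ℂ (T4 ρ α' β' γ' δ') := by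
  refine finrank_le_of_map (ρ := ρ) (tt x y) _ _ fun v hv => T4_cast ?_ ?_ ?_ ?_ (torus_T4 x y α β γ δ v hv)
  · rw [← h8, Units.mul_inv_cancel_right]
  · rw [← h9, Units.mul_inv_cancel_right]
  · rw [← h10, Units.mul_inv_cancel_right]
  · rw [← h11, Units.mul_inv_cancel_right]

theorem shift_alpha (h30 : (3 : F) = 0) {β : F} (hβ : β ≠ 0) (α α' γ δ : F) :
    finrank ℂ (T4 ρ α β γ δ) ≤ finrank ℂ (T4 ρ α' β γ δ) := by
  refine finrank_le_of_map (ρ := ρ) (xr 7 ((α - α') / β)) _ _ fun v hv => ⟨⟨⟨?_, ?_⟩, ?_⟩, ?_⟩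
  · exact stab3 h30 (by decide +kernel) _ _ v hv.1.1.1
  · exact stab3 h30 (by decide +kernel) _ _ v hv.1.1.2
  · exact stab3 h30 (by decide +kernel) _ _ v hv.1.2
  · exact ew_cast (by field_simp; ring) (mem_ew_shift (ρ := ρ) (conj_seven_eight h30 ((α - α') / β))
      hv.2 hv.1.1.2)

theorem shift_gamma (h30 : (3 : F) = 0) {δ : F} (hδ : δ ≠ 0) (α β γ γ' : F) :
    finrank ℂ (T4 ρ α β γ δ) ≤ finrank ℂ (T4 ρ α β γ' δ) := by
  refine finrank_le_of_map (ρ := ρ) (xr 6 ((γ - γ') / δ)) _ _ fun v hv => ⟨⟨⟨?_, ?_⟩, ?_⟩, ?_⟩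
  · exact stab3 h30 (by decide +kernel) _ _ v hv.1.1.1
  · exact stab3 h30 (by decide +kernel) _ _ v hv.1.1.2
  · refine ew_cast ?_ (mem_ew_shift (ρ := ρ) (conj_one (g := 6) (r := 10) (v := 11) (k := 1) (by decide +kernel)
      ((γ - γ') / δ)) hv.1.2 hv.1.1.1)
    push_cast; field_simp; ring
  · exact stab3 h30 (by decide +kernel) _ _ v hv.2

theorem T1_split (h30 : (3 : F) = 0) (β γ δ : F) :
    finrank ℂ (T1 ρ β γ δ) = ∑ α : F, finrank ℂ (T4 ρ α β γ δ) :=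
  finrank_split 8 _ fun t v hv => ⟨⟨stab3 h30 (by decide +kernel) t _ v hv.1.1,
    stab3 h30 (by decide +kernel) t _ v hv.1.2⟩, stab3 h30 (by decide +kernel) t _ v hv.2⟩

theorem T2_split (h30 : (3 : F) = 0) (α β δ : F) :
    finrank ℂ (T2 ρ α β δ) = ∑ γ : F, finrank ℂ (T4 ρ α β γ δ) := by
  refine (finrank_split 10 _ ?_).trans (Finset.sum_congr rfl fun γ _ => by rw [T4_eq])
  exact fun t v hv => ⟨⟨stab3 h30 (by decide +kernel) t _ v hv.1.1,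
    stab3 h30 (by decide +kernel) t _ v hv.1.2⟩, stab3 h30 (by decide +kernel) t _ v hv.2⟩

/-- the multiplicity of the generic weight -/
theorem T4_generic (h30 : (3 : F) = 0) {β δ : F} (hβ : β ≠ 0) (hδ : δ ≠ 0) (α γ : F) :
    finrank ℂ (T4 ρ α β γ δ) = finrank ℂ (T4 ρ (0 : F) 1 0 1) := by
  suffices H : ∀ α β γ δ α' β' γ' δ' : F, β ≠ 0 → δ ≠ 0 → β' ≠ 0 → δ' ≠ 0 →
      finrank ℂ (T4 ρ α β γ δ) ≤ finrank ℂ (T4 ρ α' β' γ' δ') from
    le_antisymm (H _ _ _ _ _ _ _ _ hβ hδ one_ne_zero one_ne_zero)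
      (H _ _ _ _ _ _ _ _ one_ne_zero one_ne_zero hβ hδ)
  intro α β γ δ α' β' γ' δ' hβ hδ hβ' hδ'
  let rB : Fˣ := Units.mk0 (β / β') (div_ne_zero hβ hβ')
  let rD : Fˣ := Units.mk0 (δ / δ') (div_ne_zero hδ hδ')
  refine ((shift_alpha h30 hβ α 0 γ δ).trans (shift_gamma h30 hδ 0 β γ 0)).trans
    ((finrank_T4_torus (rB ^ 2 / rD) (rD ^ 2 / rB ^ 3) 0 β 0 δ 0 β' 0 δ' (zero_mul _) ?_ (zero_mul _) ?_).trans
    ((shift_alpha h30 hβ' 0 α' 0 δ').trans (shift_gamma h30 hδ' α' β' 0 γ')))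
  · simp [wt, show co 9 = (2, 1) from rfl, rB, rD, zpow_two]
    field_simp
  · simp only [wt, show co 11 = (3, 2) from rfl, rB, rD, Units.val_mul, Units.val_zpow_eq_zpow_val,
      Units.val_div_eq_div_val, Units.val_pow_eq_pow_val, Units.val_mk0, zpow_ofNat]
    field_simp

theorem le_of_nel_ia (α β δ : F) : ∃ α' β' δ' : F, (α ≠ 0 → β' ≠ 0) ∧ (β ≠ 0 → α' ≠ 0) ∧ (α = 0 → β' = 0) ∧
    (β = 0 → α' = 0) ∧ (δ = 0 → δ' = 0) ∧ (δ ≠ 0 → δ' ≠ 0) ∧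
    finrank ℂ (T2 ρ α β δ) ≤ finrank ℂ (T2 ρ α' β' δ') := by
  have hp := perm_nel (F := F) [ia]
  obtain ⟨d, hd, h8⟩ := hp 8
  obtain ⟨e, he, h9⟩ := hp 9
  obtain ⟨g, hg, h11⟩ := hp 11
  rw [show sp [ia].reverse 8 = 9 by decide +kernel] at h8
  rw [show sp [ia].reverse 9 = 8 by decide +kernel] at h9
  rw [show sp [ia].reverse 11 = 11 by decide +kernel] at h11
  refine ⟨β * d, α * e, δ * g, fun h => mul_ne_zero h he, fun h => mul_ne_zero h hd, fun h => by rw [h, zero_mul],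
    fun h => by rw [h, zero_mul], fun h => by rw [h, zero_mul], fun h => mul_ne_zero h hg, ?_⟩
  exact finrank_le_of_map (ρ := ρ) (nel [ia]) _ _ fun v hv =>
    ⟨⟨mem_ew_transport h11 hv.1.1, mem_ew_transport h9 hv.2⟩, mem_ew_transport h8 hv.1.2⟩

theorem le_of_nel_ib (β γ δ : F) : ∃ β' γ' δ' : F, (β ≠ 0 → β' ≠ 0) ∧ (β = 0 → β' = 0) ∧ (γ ≠ 0 → δ' ≠ 0) ∧
    (γ = 0 → δ' = 0) ∧ (δ ≠ 0 → γ' ≠ 0) ∧ (δ = 0 → γ' = 0) ∧
    finrank ℂ (T1 ρ β γ δ) ≤ finrank ℂ (T1 ρ β' γ' δ') := by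
  have hp := perm_nel (F := F) [ib]
  obtain ⟨d, hd, h10⟩ := hp 10
  obtain ⟨e, he, h9⟩ := hp 9
  obtain ⟨g, hg, h11⟩ := hp 11
  rw [show sp [ib].reverse 10 = 11 by decide +kernel] at h10
  rw [show sp [ib].reverse 9 = 9 by decide +kernel] at h9
  rw [show sp [ib].reverse 11 = 10 by decide +kernel] at h11
  refine ⟨β * e, δ * d, γ * g, fun h => mul_ne_zero h he, fun h => by rw [h, zero_mul], fun h => mul_ne_zero h hg,
    fun h => by rw [h, zero_mul], fun h => mul_ne_zero h hd, fun h => by rw [h, zero_mul], ?_⟩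
  exact finrank_le_of_map (ρ := ρ) (nel [ib]) _ _ fun v hv =>
    ⟨⟨mem_ew_transport h11 hv.2, mem_ew_transport h9 hv.1.2⟩, mem_ew_transport h10 hv.1.1⟩

/-- the multiplicity with `X_{2a+b}` trivial and `X_{a+b}`, `X_{3a+2b}` not -/
theorem T4_beta_zero (h30 : (3 : F) = 0) {α δ : F} (hα : α ≠ 0) (hδ : δ ≠ 0) (γ : F) :
    finrank ℂ (T4 ρ α 0 γ δ) = finrank ℂ (T4 ρ (0 : F) 1 0 1) := by
  have hB : ∀ α β δ : F, β ≠ 0 → δ ≠ 0 →
      finrank ℂ (T2 ρ α β δ) = Fintype.card F * finrank ℂ (T4 ρ (0 : F) 1 0 1) := fun α β δ hβ hδ => by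
    rw [T2_split h30, Finset.sum_congr rfl fun γ _ => T4_generic h30 hβ hδ α γ]
    simp
  obtain ⟨α', β', δ', h1, -, -, h4, -, h6, hle⟩ := le_of_nel_ia (ρ := ρ) α 0 δ
  rw [hB _ _ _ (h1 hα) (h6 hδ)] at hle
  have hp := perm_nel (F := F) [ia]
  obtain ⟨d, hd, e8⟩ := hp 8
  obtain ⟨g, hg, e11⟩ := hp 11
  rw [show sp [ia].reverse 8 = 9 by decide +kernel] at e8
  rw [show sp [ia].reverse 11 = 11 by decide +kernel] at e11
  have hge : finrank ℂ (T2 ρ 0 (α / d) (δ / g)) ≤ finrank ℂ (T2 ρ α 0 δ) :=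
    finrank_le_of_map (ρ := ρ) (nel [ia]) _ _ fun v hv =>
      ⟨⟨ew_cast (div_mul_cancel₀ _ hg) (mem_ew_transport e11 hv.1.1),
        mem_ew_perm_zero hp 9 (by rw [show sp [ia].reverse 9 = 8 by decide +kernel]; exact hv.2)⟩,
        ew_cast (div_mul_cancel₀ _ hd) (mem_ew_transport e8 hv.1.2)⟩
  rw [hB _ _ _ (div_ne_zero hα hd) (div_ne_zero hδ hg)] at hge
  have h : finrank ℂ (T2 ρ α 0 δ) = Fintype.card F * finrank ℂ (T4 ρ (0 : F) 1 0 1) := le_antisymm hle hge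
  rw [T2_split h30, Finset.sum_congr rfl fun g _ => le_antisymm (shift_gamma h30 hδ α 0 g γ)
    (shift_gamma h30 hδ α 0 γ g), Finset.sum_const, Finset.card_univ, smul_eq_mul] at h
  exact Nat.eq_of_mul_eq_mul_left Fintype.card_pos h

theorem T4_M0 (h30 : (3 : F) = 0) {δ : F} (hδ : δ ≠ 0) (γ : F) :
    finrank ℂ (T4 ρ (0 : F) 0 γ δ) = finrank ℂ (T4 ρ (0 : F) 0 0 1) := by
  let c : Fˣ := Units.mk0 δ hδ
  refine le_antisymm ((shift_gamma h30 hδ 0 0 γ 0).trans ?_) (le_trans ?_ (shift_gamma h30 hδ 0 0 0 γ))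
  · refine finrank_T4_torus c c⁻¹ _ _ _ _ _ _ _ _ (zero_mul _) (zero_mul _) (zero_mul _) ?_
    rw [one_mul, show wt c c⁻¹ 11 = c by simp only [wt, show co 11 = (3, 2) from rfl]; group]
    rfl
  · refine finrank_T4_torus c⁻¹ c _ _ _ _ _ _ _ _ (zero_mul _) (zero_mul _) (zero_mul _) ?_
    rw [show wt c⁻¹ c 11 = c⁻¹ by simp only [wt, show co 11 = (3, 2) from rfl]; group]
    simp [c, hδ]

theorem sum_zero_rest [DecidableEq F] (f : F → ℕ) (n : ℕ) (h : ∀ a, a ≠ 0 → f a = n) :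
    ∑ a : F, f a = f 0 + (Fintype.card F - 1) * n := by
  rw [← Finset.add_sum_erase _ _ (Finset.mem_univ (0 : F)),
    Finset.sum_congr rfl fun a ha => h a (Finset.ne_of_mem_erase ha)]
  simp

/-- with `X_{3a+2b}` non-trivial -/
theorem T1_delta (h30 : (3 : F) = 0) {δ : F} (hδ : δ ≠ 0) (β γ : F) [Decidable (β = 0)] :
    finrank ℂ (T1 ρ β γ δ) = if β = 0 then finrank ℂ (T4 ρ (0 : F) 0 0 1) +
        (Fintype.card F - 1) * finrank ℂ (T4 ρ (0 : F) 1 0 1)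
      else Fintype.card F * finrank ℂ (T4 ρ (0 : F) 1 0 1) := by
  classical
  rw [T1_split h30]
  split_ifs with hβ
  · subst hβ
    rw [sum_zero_rest _ _ fun α hα => T4_beta_zero h30 hα hδ γ, T4_M0 h30 hδ γ]
  · rw [Finset.sum_congr rfl fun α _ => T4_generic h30 hβ hδ α γ]
    simp

/-- with `X_{3a+2b}` trivial and `X_{3a+b}` non-trivial -/
theorem T1_gamma (h30 : (3 : F) = 0) {γ : F} (hγ : γ ≠ 0) (β : F) [Decidable (β = 0)] :
    finrank ℂ (T1 ρ β γ 0) = if β = 0 then finrank ℂ (T4 ρ (0 : F) 0 0 1) +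
        (Fintype.card F - 1) * finrank ℂ (T4 ρ (0 : F) 1 0 1)
      else Fintype.card F * finrank ℂ (T4 ρ (0 : F) 1 0 1) := by
  classical
  have hp := perm_nel (F := F) [ib]
  obtain ⟨d, hd, h10⟩ := hp 10
  obtain ⟨e, he, h9⟩ := hp 9
  rw [show sp [ib].reverse 10 = 11 by decide +kernel] at h10
  rw [show sp [ib].reverse 9 = 9 by decide +kernel] at h9
  have hge : finrank ℂ (T1 ρ (β / e) 0 (γ / d)) ≤ finrank ℂ (T1 ρ β γ 0) :=
    finrank_le_of_map (ρ := ρ) (nel [ib]) _ _ fun v hv =>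
      ⟨⟨mem_ew_perm_zero hp 11 (by rw [show sp [ib].reverse 11 = 10 by decide +kernel]; exact hv.2),
        ew_cast (div_mul_cancel₀ _ he) (mem_ew_transport h9 hv.1.2)⟩,
        ew_cast (div_mul_cancel₀ _ hd) (mem_ew_transport h10 hv.1.1)⟩
  obtain ⟨β', γ', δ', b1, b2, c1, -, -, -, hle⟩ := le_of_nel_ib (ρ := ρ) β γ 0
  rw [T1_delta h30 (c1 hγ)] at hle
  rw [T1_delta h30 (div_ne_zero hγ hd)] at hge
  by_cases hβ : β = 0
  · rw [if_pos (b2 hβ)] at hle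
    rw [if_pos (by rw [hβ, zero_div])] at hge
    rw [if_pos hβ]; exact le_antisymm hle hge
  · rw [if_neg (b1 hβ)] at hle
    rw [if_neg (div_ne_zero hβ he)] at hge
    rw [if_neg hβ]; exact le_antisymm hle hge

theorem T4_delta_zero (h30 : (3 : F) = 0) {β γ : F} (hβ : β ≠ 0) (hγ : γ ≠ 0) (α : F) :
    finrank ℂ (T4 ρ α β γ 0) = finrank ℂ (T4 ρ (0 : F) 1 0 1) := by
  classical
  have h := T1_gamma (ρ := ρ) h30 hγ β
  rw [if_neg hβ, T1_split h30, Finset.sum_congr rfl fun a _ => le_antisymm (shift_alpha h30 hβ a α γ 0)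
    (shift_alpha h30 hβ α a γ 0), Finset.sum_const, Finset.card_univ, smul_eq_mul] at h
  exact Nat.eq_of_mul_eq_mul_left Fintype.card_pos h

theorem T4_N0 (h30 : (3 : F) = 0) {β : F} (hβ : β ≠ 0) (α : F) :
    finrank ℂ (T4 ρ α β 0 0) = finrank ℂ (T4 ρ (0 : F) 1 0 0) := by
  let c : Fˣ := Units.mk0 β hβ
  refine le_antisymm ((shift_alpha h30 hβ α 0 0 0).trans ?_) (le_trans ?_ (shift_alpha h30 hβ 0 α 0 0))
  · refine finrank_T4_torus c c⁻¹ _ _ _ _ _ _ _ _ (zero_mul _) ?_ (zero_mul _) (zero_mul _)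
    rw [one_mul, show wt c c⁻¹ 9 = c by simp only [wt, show co 9 = (2, 1) from rfl]; group]
    rfl
  · refine finrank_T4_torus c⁻¹ c _ _ _ _ _ _ _ _ (zero_mul _) ?_ (zero_mul _) (zero_mul _)
    rw [show wt c⁻¹ c 9 = c⁻¹ by simp only [wt, show co 9 = (2, 1) from rfl]; group]
    simp [c, hβ]

theorem T2_alpha (h30 : (3 : F) = 0) {α : F} (hα : α ≠ 0) :
    finrank ℂ (T2 ρ α 0 0) = finrank ℂ (T4 ρ (0 : F) 1 0 0) +
      (Fintype.card F - 1) * finrank ℂ (T4 ρ (0 : F) 1 0 1) := by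
  classical
  have hp := perm_nel (F := F) [ia]
  obtain ⟨d, hd, h8⟩ := hp 8
  rw [show sp [ia].reverse 8 = 9 by decide +kernel] at h8
  have hge : finrank ℂ (T2 ρ 0 (α / d) 0) ≤ finrank ℂ (T2 ρ α 0 0) :=
    finrank_le_of_map (ρ := ρ) (nel [ia]) _ _ fun v hv =>
      ⟨⟨mem_ew_perm_zero hp 11 (by rw [show sp [ia].reverse 11 = 11 by decide +kernel]; exact hv.1.1),
        mem_ew_perm_zero hp 9 (by rw [show sp [ia].reverse 9 = 8 by decide +kernel]; exact hv.2)⟩,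
        ew_cast (div_mul_cancel₀ _ hd) (mem_ew_transport h8 hv.1.2)⟩
  obtain ⟨α', β', δ', b1, -, -, b4, b5, -, hle⟩ := le_of_nel_ia (ρ := ρ) α 0 0
  have hB : ∀ β : F, β ≠ 0 → finrank ℂ (T2 ρ 0 β 0) = finrank ℂ (T4 ρ (0 : F) 1 0 0) +
      (Fintype.card F - 1) * finrank ℂ (T4 ρ (0 : F) 1 0 1) := fun β hβ => by
    rw [T2_split h30, sum_zero_rest _ _ fun g hg => T4_delta_zero h30 hβ hg 0, T4_N0 h30 hβ]
  rw [b4 rfl, b5 rfl, hB _ (b1 hα)] at hle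
  rw [hB _ (div_ne_zero hα hd)] at hge
  exact le_antisymm hle hge

end CfsgLib.G2Deg
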