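import Cfsg.Agent.Lib.G2Deg.NonThree
import Cfsg.Agent.Lib.G2Deg.AvgForm

/-!
The translates of the vectors fixed by `X_{3a+b}` and `X_{3a+2b}` rule out degree `≤ q³` when
`q ≡ 1 (mod 3)`: they produce too many distinct weights of `X_b` on a space of dimension `q`.
-/

set_option autoImplicit false
set_option linter.unusedSectionVars false

namespace CfsgLib.G2Deg

open Cfsg.Lie CfsgLib.Chev CfsgLib.G2Invol CfsgLib.MinDeg Module
open scoped ComplexConjugate

variable {F : Type*} [Field F] [Fintype F] [DecidableEq F] {k : ℕ} {ρ : Representation ℂ (GG F) (Fin k → ℂ)}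

/-- the projection onto the `α`-eigenspace of `X_r` -/
noncomputable def pr (ρ : Representation ℂ (GG F) (Fin k → ℂ)) (r : Fin 12) (α : F) :
    Module.End ℂ (Fin k → ℂ) :=
  weightProj (resChar ρ (xr r)) ((pc F).mulShift α)

theorem pr_apply (r : Fin 12) (α : F) (v : Fin k → ℂ) :
    pr ρ r α v = (Fintype.card F : ℂ)⁻¹ • ∑ t : F, pc F (-(α * t)) • ρ (xr r t) v := by
  simp [pr, weightProj_apply, AddChar.mulShift_apply, mul_neg]

theorem pr_mem (r : Fin 12) (α : F) (v : Fin k → ℂ) : pr ρ r α v ∈ ew ρ r α := weightProj_mem _ _ _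

theorem pr_mem' {r : Fin 12} {W : Submodule ℂ (Fin k → ℂ)} (hW : ∀ t, ∀ v ∈ W, ρ (xr r t) v ∈ W) (α : F)
    {v : Fin k → ℂ} (hv : v ∈ W) : pr ρ r α v ∈ W :=
  (proj_mem hW α hv).1

theorem pr_of_mem {r : Fin 12} {α : F} {v : Fin k → ℂ} (hv : v ∈ ew ρ r α) : pr ρ r α v = v :=
  weightProj_of_mem hv

theorem mem_ew_of_pr_eq_zero {r : Fin 12} {β : F} {v : Fin k → ℂ} (h : ∀ α, α ≠ β → pr ρ r α v = 0) :
    v ∈ ew ρ r β := by
  have hs : ∑ α : F, pr ρ r α v = v := by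
    conv_rhs => rw [← sum_weightProj (resChar ρ (xr r)) v]
    exact Fintype.sum_bijective _ mulShift_bijective _ _ fun _ => rfl
  rw [Fintype.sum_eq_single β h] at hs
  exact hs ▸ pr_mem r β v

variable [Fintype (GG F)]

/-- the part of the form seen by a vector fixed by `X_{3a+b}` and `X_{3a+2b}` -/
theorem hf_fixed {u : Fin k → ℂ} (hu : u ∈ W2 ρ (0 : F) 0) (x : Fin k → ℂ) :
    hf ρ u x = hf ρ u (pr ρ 11 0 (pr ρ 10 0 x)) := by
  conv_lhs => rw [← pr_of_mem hu.2, ← pr_of_mem hu.1]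
  rw [pr, pr, hf_proj, hf_proj]

/-- the translates by `n_{3a+2b}` pair with a fixed vector through a character of the torus -/
theorem exists_theta (hW : ∀ c : F, finrank ℂ (Wb ρ c) ≤ 1) {w : Fin k → ℂ} (hw : w ∈ W2 ρ (0 : F) 0) :
    ∃ (θ : F → ℂ) (K : ℂ), θ 1 = 1 ∧ θ 0 = 0 ∧ (∀ a b, θ (a * b) = θ a * θ b) ∧
      ∀ t : F, t ≠ 0 → hf ρ w (ρ (nr 11 t) w) = θ t * K := by
  classical
  let E : Fin k → ℂ := pr ρ 11 0 (pr ρ 10 0 (ρ (nr 11 (1 : F)) w))
  let Y : Submodule ℂ (Fin k → ℂ) := W2 ρ (0 : F) 0 ⊓ ew ρ 5 0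
  have hY : finrank ℂ Y ≤ 1 := by
    refine (finrank_le_of_map (ρ := ρ) (nel [ib]) _ (Wb ρ 0) ?_).trans (hW 0)
    intro v hv
    have hp := perm_nel (F := F) [ib]
    exact ⟨⟨mem_ew_perm_zero hp 11 (by rw [show sp [ib].reverse 11 = 10 by decide +kernel]; exact hv.1.2),
      mem_ew_perm_zero hp 10 (by rw [show sp [ib].reverse 10 = 11 by decide +kernel]; exact hv.1.1)⟩,
      mem_ew_perm_zero hp 6 (by rw [show sp [ib].reverse 6 = 5 by decide +kernel]; exact hv.2)⟩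
  have hE : E ∈ Y := by
    have hp := perm_nr (F := F) [ib, ia] ib 11 6 (by decide +kernel) (by decide +kernel) 1 one_ne_zero
    have h5 : ρ (nr 11 (1 : F)) w ∈ ew ρ 5 (0 : F) :=
      mem_ew_perm_zero hp 5 (by
        rw [show sp [ib, ia] (sp [ib] (sp [ib, ia].reverse 5)) = 10 by decide +kernel]; exact hw.2)
    have h' : pr ρ 10 0 (ρ (nr 11 (1 : F)) w) ∈ ew ρ 10 (0 : F) ⊓ ew ρ 5 (0 : F) :=
      ⟨pr_mem _ _ _, pr_mem' (fun t => stab (g := 10) (r := 5) (by decide +kernel) t 0) _ h5⟩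
    have h'' := pr_mem' (ρ := ρ) (r := 11) (W := ew ρ 10 (0 : F) ⊓ ew ρ 5 (0 : F))
      (fun t v hv => ⟨stab (by decide +kernel) t _ v hv.1, by
        simpa using mem_ew_shift (ρ := ρ) (conj_one (g := 11) (r := 5) (v := 10) (k := -1) (by decide +kernel) t)
          hv.2 hv.1⟩) 0 h'
    exact ⟨⟨pr_mem _ _ _, h''.1⟩, h''.2⟩
  have hφ : ∀ t : Fˣ, hf ρ w (ρ (nr 11 (t : F)) w) = hf ρ w (ρ (tt 1 t) E) := by
    intro t
    rw [nr_eq_tt_mul, rho_mul]
    have hu : ρ (tt 1 t)⁻¹ w ∈ W2 ρ (0 : F) 0 := by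
      have hg : (tt 1 t : GG F)⁻¹ = tt 1 t⁻¹ := by
        apply inv_eq_of_mul_eq_one_right
        rw [tt_mul]; exact Subtype.ext (by rw [coe_tt, one_mul, mul_inv_cancel, tor_one]; rfl)
      rw [hg]
      exact ⟨by simpa using mem_ew_transport (tt_conj' (1 : Fˣ) t⁻¹ 11) hw.1,
        by simpa using mem_ew_transport (tt_conj' (1 : Fˣ) t⁻¹ 10) hw.2⟩
    have e : ∀ x, hf ρ w (ρ (tt 1 t) x) = hf ρ (ρ (tt 1 t)⁻¹ w) x := fun x => by rw [hf_adj, inv_inv]
    rw [e, e, hf_fixed hu]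
  by_cases hE0 : E = 0
  · refine ⟨fun t => if t = 0 then 0 else 1, 0, by simp, by simp, fun a b => by
      by_cases ha : a = 0 <;> by_cases hb : b = 0 <;> simp [ha, hb], fun t ht => ?_⟩
    rw [← Units.val_mk0 ht, hφ, hE0, map_zero, hf_zero_right, mul_zero]
  have hspan : ∀ v ∈ Y, ∃ c : ℂ, c • E = v := by
    intro v hv
    have hle : ℂ ∙ E ≤ Y := by rw [Submodule.span_singleton_le_iff_mem]; exact hE
    have := Submodule.eq_of_le_of_finrank_le hle (hY.trans (finrank_span_singleton hE0).ge)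
    rw [← this] at hv
    exact Submodule.mem_span_singleton.1 hv
  have hT : ∀ t : Fˣ, ∃ c : ℂ, c • E = ρ (tt 1 t) E := fun t => hspan _
    ⟨⟨by simpa using mem_ew_transport (tt_conj' (1 : Fˣ) t 11) hE.1.1,
      by simpa using mem_ew_transport (tt_conj' (1 : Fˣ) t 10) hE.1.2⟩,
      by simpa using mem_ew_transport (tt_conj' (1 : Fˣ) t 5) hE.2⟩
  choose c hc using hT
  have hmul : ∀ s t, c (s * t) = c s * c t := fun s t => smul_left_injective ℂ hE0 (by
    show c (s * t) • E = (c s * c t) • E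
    rw [hc, mul_comm (c s), mul_smul, hc, ← map_smul, hc, ← rho_mul, tt_mul, one_mul, mul_comm s t]
    )
  have hone : c 1 = 1 := smul_left_injective ℂ hE0 (by
    show c 1 • E = (1 : ℂ) • E
    rw [hc, show (tt 1 1 : GG F) = 1 from Subtype.ext tor_one, rho_one, one_smul])
  refine ⟨fun t => if h : t = 0 then 0 else c (Units.mk0 t h), hf ρ w E, ?_, by simp, ?_, ?_⟩
  · simp [hone]
  · intro a b
    by_cases ha : a = 0
    · simp [ha]
    by_cases hb : b = 0
    · simp [hb]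
    simp only [ha, hb, mul_ne_zero ha hb, dite_false, ← hmul]
    congr 1
    exact Units.ext rfl
  · intro t ht
    simp only [ht, dite_false]
    have e := hφ (Units.mk0 t ht)
    rw [Units.val_mk0] at e
    rw [e, ← hc, hf_smul_right]

/-- the pairing of a translate with the original vector -/
theorem hf_translate {w : Fin k → ℂ} {c : F} (hc : c ≠ 0) (hw : w ∈ Wb ρ c) {θ : F → ℂ} {K : ℂ}
    (hθ : ∀ t : F, t ≠ 0 → hf ρ w (ρ (nr 11 t) w) = θ t * K) (s u : F) :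
    hf ρ w (ρ (xr 0 s) (ρ (xr 1 u) w)) =
      if s = 0 then (if u = 0 then hf ρ w w else 0) else θ (-s⁻¹) * K := by
  classical
  have hfix : ∀ r : Fin 12, w ∈ ew ρ r (0 : F) → ∀ t x, hf ρ w (ρ (xr r t) x) = hf ρ w x := fun r hr t x => by
    conv_lhs => rw [← mem_ew_zero.1 hr t]
    exact hf_inv _ _ _
  by_cases hs : s = 0
  · rw [if_pos hs, hs, AddChar.map_zero_eq_one, rho_one]
    by_cases hu : u = 0
    · rw [if_pos hu, hu, AddChar.map_zero_eq_one, rho_one]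
    rw [if_neg hu, neg_eq_nr (r := 10) (v := 1) (by decide +kernel) hu, rho_mul, rho_mul,
      mem_ew_zero.1 hw.1.2, hfix 10 hw.1.2]
    have ht : -u⁻¹ ≠ 0 := by simpa using hu
    obtain ⟨d, hd, h⟩ := perm_nr (F := F) [ia] ib 10 6 (by decide +kernel) (by decide +kernel) _ ht 11
    simp only [show sp [ia] (sp [ib] (sp [ia].reverse 11)) = 6 by decide +kernel] at h
    obtain ⟨a, ha⟩ := exists_pc_ne_one (mul_ne_zero hc hd)
    have e : hf ρ w (ρ (nr 10 (-u⁻¹)) w) = pc F (c * d * a) * hf ρ w (ρ (nr 10 (-u⁻¹)) w) := by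
      conv_lhs => rw [← hfix 11 hw.1.1 a, ← rho_mul,
        show xr 11 a * nr 10 (-u⁻¹) = nr 10 (-u⁻¹) * ((nr 10 (-u⁻¹))⁻¹ * xr 11 a * nr 10 (-u⁻¹)) by group,
        h, rho_mul, mem_ew.1 hw.2, map_smul, hf_smul_right, ← mul_assoc c d a]
    by_contra h0
    exact ha (mul_left_eq_self₀.1 e.symm |>.resolve_right h0)
  · rw [if_neg hs]
    have key : ∀ e : F, xr 0 s * xr 1 (e * s) = (xr 6 e)⁻¹ * xr 0 s * xr 6 e := fun e => by
      rw [conj_one (g := 6) (r := 0) (v := 1) (k := -1) (by decide +kernel)]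
      congr 2; push_cast; ring
    have e1 := key (u / s)
    rw [div_mul_cancel₀ _ hs] at e1
    rw [← rho_mul, e1, rho_mul, rho_mul, mem_ew.1 hw.2, map_smul, map_smul, hf_smul_right, ← hf_adj,
      mem_ew.1 hw.2, hf_smul_left, ← mul_assoc, mul_comm (pc F _), pc_star_mul, one_mul,
      neg_eq_nr (r := 11) (v := 0) (by decide +kernel) hs, rho_mul, rho_mul, mem_ew_zero.1 hw.1.1,
      hfix 11 hw.1.1, hθ _ (by simpa using hs)]

/-- the pairing of a vector with its projection -/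
theorem hf_pr {w : Fin k → ℂ} {c : F} (hc : c ≠ 0) (hw : w ∈ Wb ρ c) {θ : F → ℂ} {K : ℂ}
    (hθ0 : θ 0 = 0) (hθ : ∀ t : F, t ≠ 0 → hf ρ w (ρ (nr 11 t) w) = θ t * K) (α : F) :
    (Fintype.card F : ℂ) * (Fintype.card F : ℂ) * hf ρ w (pr ρ 0 α (pr ρ 1 0 w)) =
      hf ρ w w + (Fintype.card F : ℂ) * K * ∑ s : F, pc F (-(α * s)) * θ (-s⁻¹) := by
  classical
  have hq : (Fintype.card F : ℂ) ≠ 0 := card_cast_ne_zero
  simp only [pr_apply, hf_smul_right, hf_sum_right, map_smul, map_sum, hf_translate hc hw hθ, zero_mul,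
    neg_zero, AddChar.map_zero_eq_one, one_mul]
  have inner : ∀ s : F, (∑ u : F, if s = 0 then (if u = 0 then hf ρ w w else 0) else θ (-s⁻¹) * K) =
      (if s = 0 then hf ρ w w else 0) + (Fintype.card F : ℂ) * (θ (-s⁻¹) * K) := by
    intro s
    by_cases hs : s = 0
    · simp [hs, hθ0]
    · simp [hs, Finset.sum_const]
  simp only [← Finset.mul_sum]
  rw [Finset.sum_comm]
  simp only [← Finset.mul_sum, inner]
  rw [← mul_assoc, mul_assoc (Fintype.card F : ℂ) (Fintype.card F : ℂ), mul_inv_cancel₀ hq, mul_one,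
    Finset.mul_sum, Finset.mul_sum]
  have h0 : ∑ s : F, (if s = 0 then hf ρ w w else 0) = hf ρ w w := by simp
  conv_rhs => rw [← h0]
  rw [Finset.mul_sum Finset.univ _ ((Fintype.card F : ℂ) * K), ← Finset.sum_add_distrib]
  refine Finset.sum_congr rfl fun s _ => ?_
  by_cases hs : s = 0
  · simp only [if_pos hs]
    subst hs
    simp only [inv_zero, neg_zero, hθ0, mul_zero, zero_mul, add_zero, AddChar.map_zero_eq_one, one_mul]
    field_simp
  · simp only [if_neg hs, zero_add]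
    field_simp

theorem hf_pr_self {w : Fin k → ℂ} (α : F) :
    hf ρ (pr ρ 0 α (pr ρ 1 0 w)) (pr ρ 0 α (pr ρ 1 0 w)) = hf ρ w (pr ρ 0 α (pr ρ 1 0 w)) := by
  have hmem : pr ρ 0 α (pr ρ 1 0 w) ∈ ew ρ 1 (0 : F) :=
    pr_mem' (fun t => stab (g := 0) (r := 1) (by decide +kernel) t 0) α (pr_mem 1 0 w)
  rw [pr, hf_proj, ← pr]
  rw [pr_of_mem (pr_mem 0 α _), pr, hf_proj, ← pr, pr_of_mem hmem]

/-- zeros of `α ↦ H₀ + C θ α` form at most half of the units, unless all units are zeros -/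
theorem card_nonzero_ge (θ : F → ℂ) (h1 : θ 1 = 1) (hm : ∀ a b, θ (a * b) = θ a * θ b)
    {H0 : ℂ} (hH : H0 ≠ 0) (C : ℂ) (P : F → Prop) [DecidablePred P]
    (hP : ∀ α : F, α ≠ 0 → (P α ↔ H0 + C * θ α ≠ 0)) :
    (∀ α : F, α ≠ 0 → ¬P α) ∨
      Fintype.card F - 1 ≤ 2 * ((Finset.univ.erase (0 : F)).filter P).card := by
  set U := Finset.univ.erase (0 : F) with hU
  have hne : ∀ α : F, α ≠ 0 → θ α ≠ 0 := fun α hα h0 => one_ne_zero (α := ℂ) (by
    rw [← h1, ← mul_inv_cancel₀ hα, hm, h0, zero_mul])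
  by_cases hθ : ∀ a : F, a ≠ 0 → θ a = 1
  · by_cases h : H0 + C = 0
    · exact Or.inl fun α hα hPα => (hP α hα).1 hPα (by rw [hθ α hα, mul_one, h])
    · refine Or.inr ?_
      rw [Finset.filter_true_of_mem fun α hα => (hP α (Finset.ne_of_mem_erase hα)).2
        (by rw [hθ α (Finset.ne_of_mem_erase hα), mul_one]; exact h)]
      simp [hU]; omega
  · push Not at hθ
    obtain ⟨a, ha, hθa⟩ := hθ
    refine Or.inr ?_
    have hle : (U.filter fun α => ¬P α).card ≤ (U.filter P).card := by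
      refine Finset.card_le_card_of_injOn (fun α => a * α) (fun α hα => ?_)
        (mul_right_injective₀ ha).injOn
      obtain ⟨hαU, hαP⟩ := Finset.mem_filter.1 hα
      have hα0 := Finset.ne_of_mem_erase hαU
      refine Finset.mem_filter.2 ⟨Finset.mem_erase.2 ⟨mul_ne_zero ha hα0, Finset.mem_univ _⟩, ?_⟩
      rw [hP _ (mul_ne_zero ha hα0), hm]
      intro h0
      rw [hP α hα0, not_ne_iff] at hαP
      have h3 : C * θ α * (θ a - 1) = 0 := by linear_combination h0 - hαP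
      have h4 : C * θ α ≠ 0 := fun h5 => hH (by rwa [h5, add_zero] at hαP)
      exact hθa (sub_eq_zero.1 ((mul_eq_zero.1 h3).resolve_left h4))
    have := Finset.card_filter_add_card_filter_not (s := U) (p := P)
    have hcard : U.card = Fintype.card F - 1 := by simp [hU]
    omega

end CfsgLib.G2Deg
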