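import Cfsg.Agent.Lib.G2Deg.Roots
import Cfsg.Agent.Lib.MinDeg.Basic
import Cfsg.Agent.Lib.Chev.PerfectCover
import Mathlib.NumberTheory.LegendreSymbol.AddCharacter
import Mathlib.Analysis.RCLike.Basic

/-!
Eigenspaces of root subgroups in a complex representation of `G₂(F)`, indexed by field elements
through a fixed non-trivial additive character.
-/

set_option autoImplicit false
set_option linter.unusedSectionVars false

namespace CfsgLib.G2Deg

open Cfsg.Lie CfsgLib.Chev CfsgLib.G2Invol CfsgLib.MinDeg Module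

variable {F : Type*} [Field F] [Fintype F]

theorem exists_primitive_char (F : Type*) [Field F] [Fintype F] : ∃ e : AddChar F ℂ, e.IsPrimitive := by
  obtain ⟨e, he⟩ := Fintype.exists_ne_of_one_lt_card
    (by rw [AddChar.card_eq]; exact Fintype.one_lt_card) (1 : AddChar F ℂ)
  exact ⟨e, AddChar.IsPrimitive.of_ne_one he⟩

/-- a fixed primitive additive character -/
noncomputable def pc (F : Type*) [Field F] [Fintype F] : AddChar F ℂ := (exists_primitive_char F).choose

theorem pc_prim : (pc F).IsPrimitive := (exists_primitive_char F).choose_spec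

theorem pc_inj {a b : F} (h : ∀ t, pc F (a * t) = pc F (b * t)) : a = b :=
  AddChar.to_mulShift_inj_of_isPrimitive pc_prim (DFunLike.ext _ _ fun t => by
    simpa [AddChar.mulShift_apply] using h t)

theorem exists_pc_ne_one {a : F} (ha : a ≠ 0) : ∃ t, pc F (a * t) ≠ 1 := by
  by_contra h
  push Not at h
  exact ha (pc_inj (b := 0) fun t => by rw [h t, zero_mul, AddChar.map_zero_eq_one])

theorem mulShift_bijective : Function.Bijective (fun a : F => (pc F).mulShift a) :=
  (Fintype.bijective_iff_injective_and_card _).2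
    ⟨AddChar.to_mulShift_inj_of_isPrimitive pc_prim, by rw [AddChar.card_eq]⟩

theorem star_pc (x : F) : star (pc F x) = pc F (-x) := (AddChar.map_neg_eq_conj _ _).symm

theorem pc_star_mul (x : F) : star (pc F x) * pc F x = 1 := by
  rw [star_pc, ← AddChar.map_add_eq_mul, neg_add_cancel, AddChar.map_zero_eq_one]

variable {V : Type*} [AddCommGroup V] [Module ℂ V] (ρ : Representation ℂ (GG F) V)

/-- the `α`-eigenspace of the root subgroup `X_r` -/
noncomputable def ew (r : Fin 12) (α : F) : Submodule ℂ V :=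
  weightSpace (resChar ρ (xr r)) ((pc F).mulShift α)

variable {ρ}

theorem mem_ew {r : Fin 12} {α : F} {v : V} :
    v ∈ ew ρ r α ↔ ∀ t, ρ (xr r t) v = pc F (α * t) • v := by
  simp [ew, mem_weightSpace, AddChar.mulShift_apply]

theorem mem_ew_zero {r : Fin 12} {v : V} : v ∈ ew ρ r (0 : F) ↔ ∀ t, ρ (xr r t) v = v := by
  simp [mem_ew]

theorem ew_unique {r : Fin 12} {α β : F} {v : V} (hv : v ≠ 0) (h1 : v ∈ ew ρ r α) (h2 : v ∈ ew ρ r β) :
    α = β :=
  pc_inj fun t => smul_left_injective ℂ hv ((mem_ew.1 h1 t).symm.trans (mem_ew.1 h2 t))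

theorem rho_mul (g h : GG F) (v : V) : ρ (g * h) v = ρ g (ρ h v) := by
  rw [map_mul, Module.End.mul_apply]

theorem rho_one (v : V) : ρ 1 v = v := by rw [map_one, Module.End.one_apply]

theorem rho_inv_self (g : GG F) (v : V) : ρ g⁻¹ (ρ g v) = v := by
  rw [← rho_mul, inv_mul_cancel, rho_one]

theorem rho_self_inv (g : GG F) (v : V) : ρ g (ρ g⁻¹ v) = v := by
  rw [← rho_mul, mul_inv_cancel, rho_one]

theorem mem_ew_of {g : GG F} {r : Fin 12} {β : F} {v : V}
    (h : ∀ t, ρ (g⁻¹ * xr r t * g) v = pc F (β * t) • v) : ρ g v ∈ ew ρ r β := by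
  rw [mem_ew]
  intro t
  rw [← map_smul, ← h t, rho_mul, rho_mul, rho_self_inv]

/-- transport of an eigenvector -/
theorem mem_ew_transport {g : GG F} {r r' : Fin 12} {d α : F}
    (h : ∀ t, g⁻¹ * xr r' t * g = xr r (d * t)) {v : V} (hv : v ∈ ew ρ r α) :
    ρ g v ∈ ew ρ r' (α * d) :=
  mem_ew_of fun t => by rw [h, mem_ew.1 hv, mul_assoc]

/-- shift of an eigenvalue -/
theorem mem_ew_shift {g : GG F} {r s : Fin 12} {κ α γ : F}
    (h : ∀ t, g⁻¹ * xr r t * g = xr r t * xr s (κ * t)) {v : V} (hv : v ∈ ew ρ r α) (hv' : v ∈ ew ρ s γ) :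
    ρ g v ∈ ew ρ r (α + γ * κ) :=
  mem_ew_of fun t => by
    rw [h, rho_mul, mem_ew.1 hv', map_smul, mem_ew.1 hv, smul_smul, ← AddChar.map_add_eq_mul]
    ring_nf

/-- commuting root subgroups preserve eigenspaces -/
theorem mem_ew_comm {g : GG F} {r : Fin 12} {α : F}
    (h : ∀ t, g⁻¹ * xr r t * g = xr r t) {v : V} (hv : v ∈ ew ρ r α) : ρ g v ∈ ew ρ r α :=
  mem_ew_of fun t => by rw [h, mem_ew.1 hv]

theorem mem_ew_perm {g : GG F} {f : Fin 12 → Fin 12} (hg : Perm g f) (r : Fin 12) {α : F} {v : V}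
    (hv : v ∈ ew ρ (f r) α) : ∃ d : F, d ≠ 0 ∧ ρ g v ∈ ew ρ r (α * d) :=
  (hg r).imp fun _ hd => ⟨hd.1, mem_ew_transport hd.2 hv⟩

theorem mem_ew_perm_zero {g : GG F} {f : Fin 12 → Fin 12} (hg : Perm g f) (r : Fin 12) {v : V}
    (hv : v ∈ ew ρ (f r) (0 : F)) : ρ g v ∈ ew ρ r (0 : F) := by
  obtain ⟨d, -, h⟩ := mem_ew_perm hg r hv
  rwa [zero_mul] at h

theorem proj_mem {r : Fin 12} {W : Submodule ℂ V} (hW : ∀ t, ∀ v ∈ W, ρ (xr r t) v ∈ W) (α : F) {v : V}
    (hv : v ∈ W) : weightProj (resChar ρ (xr r)) ((pc F).mulShift α) v ∈ W ⊓ ew ρ r α := by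
  refine ⟨?_, weightProj_mem _ _ _⟩
  rw [weightProj_apply]
  exact W.smul_mem _ (Submodule.sum_mem _ fun a _ => W.smul_mem _ (hW a v hv))

variable [FiniteDimensional ℂ V]

theorem finrank_le_of_map (g : GG F) (W W' : Submodule ℂ V) (h : ∀ v ∈ W, ρ g v ∈ W') :
    finrank ℂ W ≤ finrank ℂ W' :=
  LinearMap.finrank_le_finrank_of_injective (f := (ρ g).restrict h)
    fun _ _ e => Subtype.ext (rep_injective ρ g (congrArg Subtype.val e))

/-- a stable subspace splits into the eigenspaces -/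
theorem finrank_split (r : Fin 12) (W : Submodule ℂ V) (hW : ∀ t, ∀ v ∈ W, ρ (xr r t) v ∈ W) :
    finrank ℂ W = ∑ α : F, finrank ℂ (W ⊓ ew ρ r α : Submodule ℂ V) := by
  classical
  let P : F → Module.End ℂ V := fun α => weightProj (resChar ρ (xr r)) ((pc F).mulShift α)
  let π : W →ₗ[ℂ] ∀ α : F, (W ⊓ ew ρ r α : Submodule ℂ V) :=
    LinearMap.pi fun α => ((P α).comp W.subtype).codRestrict _ fun v => proj_mem hW α v.2
  have hsum : ∀ v : V, ∑ α : F, P α v = v := fun v => by
    conv_rhs => rw [← sum_weightProj (resChar ρ (xr r)) v]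
    exact Fintype.sum_bijective _ mulShift_bijective _ _ fun _ => rfl
  have hinj : Function.Injective π := by
    rw [← LinearMap.ker_eq_bot, Submodule.eq_bot_iff]
    intro v hv
    apply Subtype.ext
    rw [← hsum (v : V)]
    refine Finset.sum_eq_zero fun α _ => ?_
    exact congrArg Subtype.val (congrFun (LinearMap.mem_ker.1 hv) α)
  have hsurj : Function.Surjective π := by
    intro f
    refine ⟨∑ α : F, ⟨(f α : V), (f α).2.1⟩, ?_⟩
    funext β
    apply Subtype.ext
    simp only [π, LinearMap.pi_apply, map_sum, AddSubmonoidClass.coe_finsetSum, LinearMap.codRestrict_apply,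
      LinearMap.comp_apply, Submodule.subtype_apply]
    rw [Finset.sum_eq_single β (fun α _ hne => weightProj_of_mem_ne
      (fun h => hne (mulShift_bijective.1 h).symm) (f α).2.2) (by simp)]
    exact weightProj_of_mem (f β).2.2
  rw [← Module.finrank_pi_fintype ℂ (M := fun α : F => (W ⊓ ew ρ r α : Submodule ℂ V))]
  exact (LinearEquiv.ofBijective π ⟨hinj, hsurj⟩).finrank_eq

theorem finrank_top_split (r : Fin 12) : finrank ℂ V = ∑ α : F, finrank ℂ (ew ρ r α) := by
  have h := finrank_split (ρ := ρ) r ⊤ fun _ _ _ => Submodule.mem_top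
  rw [finrank_top] at h
  rw [h]
  exact Finset.sum_congr rfl fun α _ => by rw [top_inf_eq]

/-- a stable line is an eigenline -/
theorem exists_eigen_of_le_one {r : Fin 12} {W : Submodule ℂ V} (hW : ∀ t, ∀ v ∈ W, ρ (xr r t) v ∈ W)
    (h1 : finrank ℂ W ≤ 1) {v : V} (hv : v ∈ W) : ∃ α : F, v ∈ ew ρ r α := by
  by_cases hv0 : v = 0
  · exact ⟨0, hv0 ▸ Submodule.zero_mem _⟩
  have hpos : 0 < finrank ℂ W := by
    rcases Nat.eq_zero_or_pos (finrank ℂ W) with h | h
    · rw [Submodule.finrank_eq_zero] at h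
      rw [h] at hv
      exact absurd ((Submodule.mem_bot ℂ).1 hv) hv0
    · exact h
  rw [finrank_split r W hW] at hpos
  obtain ⟨α, -, hα⟩ := Finset.exists_ne_zero_of_sum_ne_zero hpos.ne'
  have hle : finrank ℂ W ≤ finrank ℂ (W ⊓ ew ρ r α : Submodule ℂ V) := by omega
  have := Submodule.eq_of_le_of_finrank_le (inf_le_left : W ⊓ ew ρ r α ≤ W) hle
  rw [← this] at hv
  exact ⟨α, hv.2⟩

/-- a stable line normalised by an element scaling `X_r` non-trivially is fixed by `X_r` -/
theorem fixed_of_scaled {r : Fin 12} {W : Submodule ℂ V} (hW : ∀ t, ∀ v ∈ W, ρ (xr r t) v ∈ W)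
    (h1 : finrank ℂ W ≤ 1) {g : GG F} (hg : ∀ v ∈ W, ρ g v ∈ W) {d : F} (hd : d ≠ 1)
    (h : ∀ t, g⁻¹ * xr r t * g = xr r (d * t)) : W ≤ ew ρ r (0 : F) := by
  intro v hv
  by_cases hv0 : v = 0
  · exact hv0 ▸ Submodule.zero_mem _
  obtain ⟨α, hα⟩ := exists_eigen_of_le_one hW h1 hv
  have h0 : ρ g v ≠ 0 := fun e => hv0 (rep_injective ρ g (e.trans (map_zero (ρ g)).symm))
  have hW1 : finrank ℂ W = 1 := by
    refine le_antisymm h1 (one_le_finrank_of_ne_bot fun e => hv0 ?_)
    rwa [e, Submodule.mem_bot] at hv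
  have hmem : ρ g v ∈ ew ρ r α := by
    have hle : W ≤ ew ρ r α := by
      have hne : W ⊓ ew ρ r α ≠ ⊥ := fun e => hv0 ((Submodule.mem_bot ℂ).1 (e ▸ ⟨hv, hα⟩))
      have hle' : finrank ℂ W ≤ finrank ℂ (W ⊓ ew ρ r α : Submodule ℂ V) := by
        rw [hW1]; exact one_le_finrank_of_ne_bot hne
      exact (Submodule.eq_of_le_of_finrank_le (inf_le_left : W ⊓ ew ρ r α ≤ W) hle').symm.le.trans inf_le_right
    exact hle (hg v hv)
  have e := ew_unique h0 hmem (mem_ew_transport h hα)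
  have : α * (d - 1) = 0 := by rw [mul_sub, mul_one, ← e, sub_self]
  rcases mul_eq_zero.1 this with h2 | h2
  · rwa [h2] at hα
  · exact absurd (sub_eq_zero.1 h2) hd

/-- a non-trivial irreducible representation is faithful on root subgroups -/
theorem rho_xr_ne_one {k : ℕ} {σ : Representation ℂ (GG F) (Fin k → ℂ)} (hσ : σ.IsIrreducible) (hk : 2 ≤ k)
    (hq : 2 < Fintype.card F) (r : Fin 12) {t : F} (ht : t ≠ 0) : σ (xr r t) ≠ 1 := by
  classical
  have hF : ∃ a : F, a ≠ 0 ∧ a ≠ 1 := by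
    by_contra h
    push Not at h
    have : (Finset.univ : Finset F) ⊆ {0, 1} := fun a _ => by
      by_cases ha : a = 0
      · simp [ha]
      · simp [h a ha]
    have := (Finset.card_le_card this).trans Finset.card_le_two
    rw [Finset.card_univ] at this
    omega
  haveI : IsSimpleGroup (GG F) := (isSimple_group_of_cover _ (by simp) (fun _ => hF)).1
  intro h
  rcases IsSimpleGroup.eq_bot_or_eq_top_of_normal (MonoidHom.ker σ) inferInstance with hb | ht'
  · have h' : xr r t ∈ MonoidHom.ker σ := h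
    rw [hb, Subgroup.mem_bot] at h'
    exact ht ((elX_eq_one_iff hcG (lt12 r) t).1 (congrArg Subtype.val h'))
  · obtain ⟨s, -, hs⟩ := exists_rep_ne_one σ hσ hk Set.univ (top_le_iff.1 fun x _ =>
      Subgroup.subset_normalClosure (Set.mem_univ x))
    exact hs ((ht' ▸ Subgroup.mem_top s : s ∈ MonoidHom.ker σ))

end CfsgLib.G2Deg
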